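import Groth.Prelude.Def_W4c4cptpiccptjacBI
import Mathlib

/-! The Basic Inequality. -/

universe u

open Finset

namespace LeadLabGraph.BI

variable {V E : Type u} [Fintype V] [Fintype E] [DecidableEq V] [DecidableEq E]
variable {ends : E → V × V} {w : V → ℕ}

open LabGraph

/-- Indicator of an edge crossing `Y`. -/
def chi (ends : E → V × V) (Y : Finset V) (e : E) : ℤ :=
  if ((ends e).1 ∈ Y ∧ (ends e).2 ∉ Y) ∨ ((ends e).1 ∉ Y ∧ (ends e).2 ∈ Y) then 1 else 0

lemma cut_eq (Y : Finset V) : (cut ends Y : ℤ) = ∑ e, chi ends Y e := by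
  rw [cut, Finset.card_filter]; push_cast; rfl

/-- The flux of `φ` out of `Y` along an edge. -/
def flux (ends : E → V × V) (φ : V → ℤ) (Y : Finset V) (e : E) : ℤ :=
  (if (ends e).1 ∈ Y then φ (ends e).2 - φ (ends e).1 else 0) +
    (if (ends e).2 ∈ Y then φ (ends e).1 - φ (ends e).2 else 0)

lemma twist_sum (φ : V → ℤ) (Y : Finset V) :
    ∑ v ∈ Y, twist ends φ v = ∑ e, flux ends φ Y e := by
  simp only [twist, flux]
  rw [Finset.sum_comm]
  apply Finset.sum_congr rfl
  intro e _
  rw [Finset.sum_add_distrib, Finset.sum_ite_eq, Finset.sum_ite_eq]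

lemma twist_total (φ : V → ℤ) : ∑ v, twist ends φ v = 0 := by
  rw [twist_sum]
  exact Finset.sum_eq_zero fun e _ => by simp [flux]

/-- The numerator of the Basic Inequality. -/
def eps (ends : E → V × V) (w : V → ℕ) (d : V → ℤ) (Y : Finset V) : ℤ :=
  canDeg ends w univ * (∑ v ∈ Y, d v) - (∑ v, d v) * canDeg ends w Y

lemma endCount_total : ∑ v, (endCount ends univ v : ℤ) = 2 * (Fintype.card E : ℤ) := by
  simp only [endCount, Nat.cast_sum, Nat.cast_add, Nat.cast_ite, Nat.cast_one, Nat.cast_zero]
  rw [Finset.sum_comm]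
  simp only [Finset.sum_add_distrib, Finset.sum_ite_eq, mem_univ, if_true, Finset.sum_const,
    nsmul_eq_mul, mul_one, Finset.card_univ]
  ring

lemma canDeg_univ : canDeg ends w univ = 2 * (genus ends w - 1) := by
  simp only [canDeg, genus, Finset.sum_add_distrib, Finset.sum_sub_distrib, endCount_total,
    Finset.sum_const, nsmul_eq_mul, Finset.card_univ, ← Finset.mul_sum]
  ring

lemma canDeg_pos (hg : 2 ≤ genus ends w) : 0 < canDeg ends w univ := by rw [canDeg_univ]; omega

lemma eps_univ (d : V → ℤ) : eps ends w d univ = 0 := by simp [eps, mul_comm]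

lemma eps_modular (d : V → ℤ) (Y Z : Finset V) :
    eps ends w d (Y ∪ Z) + eps ends w d (Y ∩ Z) = eps ends w d Y + eps ends w d Z := by
  have h1 := Finset.sum_union_inter (s₁ := Y) (s₂ := Z) (f := d)
  have h2 : canDeg ends w (Y ∪ Z) + canDeg ends w (Y ∩ Z) = canDeg ends w Y + canDeg ends w Z :=
    Finset.sum_union_inter
  simp only [eps]
  linear_combination canDeg ends w univ * h1 - (∑ v, d v) * h2

lemma eps_compl (d : V → ℤ) (Y : Finset V) : eps ends w d Yᶜ = -eps ends w d Y := by
  have h := eps_modular (ends := ends) (w := w) d Y Yᶜ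
  rw [Finset.union_compl, eps_univ, Finset.inter_compl] at h
  simp [eps, canDeg] at h
  simp only [eps, canDeg]
  linarith

lemma cut_compl (Y : Finset V) : cut ends Yᶜ = cut ends Y := by
  unfold cut
  congr 1
  ext e
  simp only [mem_filter, mem_univ, true_and, Finset.mem_compl, not_not]
  tauto

lemma satisfies_of_upper (d : V → ℤ)
    (h : ∀ Y, 2 * eps ends w d Y ≤ (cut ends Y : ℤ) * canDeg ends w univ) : SatisfiesBI ends w d := by
  intro Y
  have h1 := h Y
  have h2 := h Yᶜ
  rw [eps_compl, cut_compl] at h2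
  simp only [eps] at h1 h2
  rcases abs_cases (canDeg ends w univ * (∑ v ∈ Y, d v) - (∑ v : V, d v) * canDeg ends w Y) with
    ⟨he, -⟩ | ⟨he, -⟩ <;> rw [he] <;> linarith

lemma upper {d : V → ℤ} (h : SatisfiesBI ends w d) (Y : Finset V) :
    2 * eps ends w d Y ≤ (cut ends Y : ℤ) * canDeg ends w univ := by
  have := h Y
  have := le_abs_self (eps ends w d Y)
  simp only [eps] at this ⊢
  linarith

lemma eps_add_twist (d φ : V → ℤ) (Y : Finset V) :
    eps ends w (fun v => d v + twist ends φ v) Y =
      eps ends w d Y + canDeg ends w univ * ∑ e, flux ends φ Y e := by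
  simp only [eps, Finset.sum_add_distrib, twist_sum, twist_total]
  rw [show ∑ e, flux ends φ univ e = 0 from Finset.sum_eq_zero fun e _ => by simp [flux]]
  ring

theorem add_extreme (hg : 2 ≤ genus ends w) (d : V → ℤ) (hBI : SatisfiesBI ends w d) (Z : Finset V)
    (hZ : 2 * eps ends w d Z = (cut ends Z : ℤ) * canDeg ends w univ) :
    SatisfiesBI ends w (fun v => d v + twist ends (fun u => if u ∈ Z then 1 else 0) v) := by
  apply satisfies_of_upper
  intro Y
  rw [eps_add_twist]
  have h1 := upper hBI (Y ∪ Z)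
  have h2 := upper hBI (Y ∩ Z)
  have h3 := eps_modular (ends := ends) (w := w) d Y Z
  have hK := canDeg_pos hg
  have key : (cut ends (Y ∪ Z) : ℤ) + cut ends (Y ∩ Z) - cut ends Z +
      2 * ∑ e, flux ends (fun u => if u ∈ Z then 1 else 0) Y e ≤ cut ends Y := by
    simp only [cut_eq, Finset.mul_sum, ← Finset.sum_add_distrib, ← Finset.sum_sub_distrib]
    apply Finset.sum_le_sum
    intro e _
    by_cases a : (ends e).1 ∈ Y <;> by_cases b : (ends e).2 ∈ Y <;>
      by_cases c : (ends e).1 ∈ Z <;> by_cases dd : (ends e).2 ∈ Z <;>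
      simp [chi, flux, a, b, c, dd]
  nlinarith [mul_le_mul_of_nonneg_left key hK.le]

theorem exists_rep (hconn : LabGraph.Connected ends) (hg : 2 ≤ genus ends w) (d : V → ℤ) :
    ∃ d' : V → ℤ, TwistEquiv ends d' d ∧ SatisfiesBI ends w d' := by
  classical
  set K := canDeg ends w univ with hKdef
  have hK : 0 < K := canDeg_pos hg
  set ε : V → ℤ := fun v => K * d v - (∑ u, d u) * (2 * (w v : ℤ) - 2 + (endCount ends univ v : ℤ)) with hε
  have hεY : ∀ Y : Finset V, ∑ v ∈ Y, ε v = eps ends w d Y := fun Y => by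
    simp only [hε, eps, canDeg, Finset.sum_sub_distrib, ← Finset.mul_sum, hKdef]
  set Δ : (V → ℤ) → E → ℤ := fun φ e => φ (ends e).2 - φ (ends e).1 with hΔ
  set F : (V → ℤ) → ℤ := fun φ => K * ∑ e, Δ φ e ^ 2 - 2 * ∑ v, φ v * ε v with hF
  obtain ⟨r⟩ := hconn.1
  have hk : ∀ v, ∃ k : ℕ, ∀ φ : V → ℤ, |φ v - φ r| ≤ k * ∑ e, |Δ φ e| := by
    intro v
    induction hconn.2 r v with
    | refl => exact ⟨0, fun φ => by simp⟩
    | @tail b c _ hbc ih =>
      obtain ⟨k, hk⟩ := ih
      obtain ⟨e, he⟩ := hbc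
      refine ⟨k + 1, fun φ => ?_⟩
      have h1 : |φ c - φ b| ≤ ∑ e, |Δ φ e| := by
        have h2 := Finset.single_le_sum (f := fun e => |Δ φ e|) (fun e _ => abs_nonneg _) (mem_univ e)
        rcases he with h | h <;> simp only [hΔ, h] at h2 ⊢
        · exact h2
        · rw [abs_sub_comm]; exact h2
      have h3 := abs_sub_le (φ c) (φ b) (φ r)
      push_cast
      linarith [hk φ]
  choose k hk using hk
  set C : ℤ := ∑ v, (k v : ℤ) * |ε v| with hC
  have hbound : ∀ φ, -(Fintype.card E * C ^ 2 : ℤ) ≤ F φ := by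
    intro φ
    have h0 : ∑ v, φ v * ε v = ∑ v, (φ v - φ r) * ε v := by
      simp only [sub_mul, Finset.sum_sub_distrib, ← Finset.mul_sum, hεY, eps_univ, mul_zero, sub_zero]
    have h1 : ∑ v, (φ v - φ r) * ε v ≤ C * ∑ e, |Δ φ e| := by
      rw [hC, Finset.sum_mul]
      apply Finset.sum_le_sum
      intro v _
      calc (φ v - φ r) * ε v ≤ |(φ v - φ r) * ε v| := le_abs_self _
        _ = |φ v - φ r| * |ε v| := abs_mul _ _
        _ ≤ ((k v : ℤ) * ∑ e, |Δ φ e|) * |ε v| := mul_le_mul_of_nonneg_right (hk v φ) (abs_nonneg _)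
        _ = _ := by ring
    have h2 : ∀ e, -(C ^ 2) ≤ K * Δ φ e ^ 2 - 2 * (C * |Δ φ e|) := by
      intro e
      nlinarith [sq_nonneg (|Δ φ e| - C), sq_abs (Δ φ e), mul_nonneg (show (0:ℤ) ≤ K - 1 by omega) (sq_nonneg (Δ φ e))]
    have h3 := Finset.sum_le_sum (fun e (_ : e ∈ univ) => h2 e)
    simp only [Finset.sum_const, Finset.card_univ, nsmul_eq_mul, Finset.sum_sub_distrib,
      ← Finset.mul_sum] at h3
    simp only [hF, h0]
    linarith
  obtain ⟨m, ⟨φ, hφ⟩, hmin⟩ := Int.exists_least_of_bdd (P := fun z => ∃ φ, F φ = z)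
    ⟨_, fun z ⟨φ, h⟩ => h ▸ hbound φ⟩ ⟨_, 0, rfl⟩
  refine ⟨fun v => d v + twist ends φ v, ⟨φ, fun v => by simp⟩, satisfies_of_upper _ fun Y => ?_⟩
  rw [eps_add_twist]
  have h := hmin _ ⟨fun v => φ v + (if v ∈ Y then 1 else 0), rfl⟩
  rw [← hφ] at h
  have e1 : ∑ e, Δ (fun v => φ v + (if v ∈ Y then 1 else 0)) e ^ 2 =
      ∑ e, Δ φ e ^ 2 - 2 * ∑ e, flux ends φ Y e + (cut ends Y : ℤ) := by
    rw [cut_eq, Finset.mul_sum, ← Finset.sum_sub_distrib, ← Finset.sum_add_distrib]
    apply Finset.sum_congr rfl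
    intro e _
    by_cases a : (ends e).1 ∈ Y <;> by_cases b : (ends e).2 ∈ Y <;>
      simp [hΔ, flux, chi, a, b] <;> ring
  have e2 : ∑ v, (φ v + (if v ∈ Y then 1 else 0)) * ε v = ∑ v, φ v * ε v + eps ends w d Y := by
    simp only [add_mul, Finset.sum_add_distrib, ite_mul, one_mul, zero_mul, Finset.sum_ite_mem,
      Finset.univ_inter, hεY]
  simp only [hF, e1, e2] at h
  linarith

theorem exists_levels (hconn : LabGraph.Connected ends) (hg : 2 ≤ genus ends w) (d d' : V → ℤ)
    (hBI : SatisfiesBI ends w d) (hBI' : SatisfiesBI ends w d') (heq : TwistEquiv ends d d') :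
    ∃ (q : ℕ) (h : V → ℕ), (∀ v : V, h v ≤ q) ∧ (∀ i : ℕ, i ≤ q → ∃ v : V, h v = i) ∧
      (∀ v : V, d v - d' v = twist ends (fun u => (h u : ℤ)) v) ∧
      (∀ i j : ℕ, i ≤ q → j ≤ q → i ≠ j →
        ((∃ e : E, (h (ends e).1 = i ∧ h (ends e).2 = j) ∨ (h (ends e).1 = j ∧ h (ends e).2 = i)) ↔
          (i + 1 = j ∨ j + 1 = i))) := by
  classical
  obtain ⟨φ, hφ⟩ := heq
  haveI := hconn.1
  obtain ⟨v₀, -, hv₀⟩ := Finset.exists_min_image univ φ univ_nonempty
  set h : V → ℕ := fun v => (φ v - φ v₀).toNat with hh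
  have hcast : ∀ v, (h v : ℤ) = φ v - φ v₀ := fun v =>
    Int.toNat_of_nonneg (by linarith [hv₀ v (mem_univ v)])
  have htw : ∀ v, d v - d' v = twist ends (fun u => (h u : ℤ)) v := fun v => by
    rw [hφ v]; simp only [twist, hcast, sub_sub_sub_cancel_right]
  set K := canDeg ends w univ
  have hK : 0 < K := canDeg_pos hg
  -- levels jump by at most one
  have hstep : ∀ e, h (ends e).1 ≤ h (ends e).2 + 1 ∧ h (ends e).2 ≤ h (ends e).1 + 1 := by
    have key : ∀ t : ℕ, ∀ e, h (ends e).1 < t → t ≤ h (ends e).2 ∨ False →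
        h (ends e).2 ≤ h (ends e).1 + 1 := by
      intro t e he1 he2
      set Y := univ.filter (fun v => t ≤ h v) with hY
      have hd : d = fun v => d' v + twist ends (fun u => (h u : ℤ)) v :=
        funext fun v => by linarith [htw v]
      have h1 := hBI Y
      have h2 := hBI' Y
      have h3 : eps ends w d Y = eps ends w d' Y + K * ∑ e, flux ends (fun u => (h u : ℤ)) Y e := by
        conv_lhs => rw [hd]
        rw [eps_add_twist]
      simp only [eps] at h3
      have hbd : -(cut ends Y : ℤ) * K ≤ K * ∑ e, flux ends (fun u => (h u : ℤ)) Y e := by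
        have := neg_abs_le (K * (∑ v ∈ Y, d v) - (∑ v : V, d v) * canDeg ends w Y)
        have := le_abs_self (K * (∑ v ∈ Y, d' v) - (∑ v : V, d' v) * canDeg ends w Y)
        nlinarith
      have hnn : ∀ x ∈ (univ : Finset E), 0 ≤ -flux ends (fun u => (h u : ℤ)) Y x - chi ends Y x := by
        intro x _
        by_cases a : t ≤ h (ends x).1 <;> by_cases b : t ≤ h (ends x).2 <;>
          simp [flux, chi, hY, a, b] <;> omega
      have hsum : ∑ x, (-flux ends (fun u => (h u : ℤ)) Y x - chi ends Y x) ≤ 0 := by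
        rw [Finset.sum_sub_distrib, Finset.sum_neg_distrib, ← cut_eq]
        by_contra hc
        push_neg at hc
        nlinarith
      have := (Finset.sum_eq_zero_iff_of_nonneg hnn).1
        (le_antisymm hsum (Finset.sum_nonneg hnn)) e (mem_univ e)
      have a : ¬ t ≤ h (ends e).1 := by omega
      have b : t ≤ h (ends e).2 := he2.resolve_right id
      simp [flux, chi, hY, a, b] at this
      omega
    have key' : ∀ t : ℕ, ∀ e, h (ends e).2 < t → t ≤ h (ends e).1 ∨ False →
        h (ends e).1 ≤ h (ends e).2 + 1 := by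
      intro t e he1 he2
      set Y := univ.filter (fun v => t ≤ h v) with hY
      have hd : d = fun v => d' v + twist ends (fun u => (h u : ℤ)) v :=
        funext fun v => by linarith [htw v]
      have h1 := hBI Y
      have h2 := hBI' Y
      have h3 : eps ends w d Y = eps ends w d' Y + K * ∑ e, flux ends (fun u => (h u : ℤ)) Y e := by
        conv_lhs => rw [hd]
        rw [eps_add_twist]
      simp only [eps] at h3
      have hbd : -(cut ends Y : ℤ) * K ≤ K * ∑ e, flux ends (fun u => (h u : ℤ)) Y e := by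
        have := neg_abs_le (K * (∑ v ∈ Y, d v) - (∑ v : V, d v) * canDeg ends w Y)
        have := le_abs_self (K * (∑ v ∈ Y, d' v) - (∑ v : V, d' v) * canDeg ends w Y)
        nlinarith
      have hnn : ∀ x ∈ (univ : Finset E), 0 ≤ -flux ends (fun u => (h u : ℤ)) Y x - chi ends Y x := by
        intro x _
        by_cases a : t ≤ h (ends x).1 <;> by_cases b : t ≤ h (ends x).2 <;>
          simp [flux, chi, hY, a, b] <;> omega
      have hsum : ∑ x, (-flux ends (fun u => (h u : ℤ)) Y x - chi ends Y x) ≤ 0 := by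
        rw [Finset.sum_sub_distrib, Finset.sum_neg_distrib, ← cut_eq]
        by_contra hc
        push_neg at hc
        nlinarith
      have := (Finset.sum_eq_zero_iff_of_nonneg hnn).1
        (le_antisymm hsum (Finset.sum_nonneg hnn)) e (mem_univ e)
      have a : t ≤ h (ends e).1 := he2.resolve_right id
      have b : ¬ t ≤ h (ends e).2 := by omega
      simp [flux, chi, hY, a, b] at this
      omega
    intro e
    constructor
    · by_contra hc
      exact hc (key' (h (ends e).2 + 1) e (by omega) (Or.inl (by omega)))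
    · by_contra hc
      exact hc (key (h (ends e).1 + 1) e (by omega) (Or.inl (by omega)))
  obtain ⟨vq, -, hvq⟩ := Finset.exists_max_image univ h univ_nonempty
  have hh0 : h v₀ = 0 := by simp [hh]
  -- every gap between 0 and the top is crossed
  have hcross : ∀ i, i < h vq → ∃ e : E, (h (ends e).1 = i ∧ h (ends e).2 = i + 1) ∨
      (h (ends e).1 = i + 1 ∧ h (ends e).2 = i) := by
    intro i hi
    by_contra hc
    push_neg at hc
    have : ∀ v, Relation.ReflTransGen (Adj ends) v₀ v → h v ≤ i := by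
      intro v hv
      induction hv with
      | refl => omega
      | @tail b c _ hbc ih =>
        obtain ⟨e, he | he⟩ := hbc <;>
        · have := hstep e
          have := hc e
          rw [he] at *
          simp only at *
          by_contra hcon
          omega
    have := this vq (hconn.2 v₀ vq)
    omega
  refine ⟨h vq, h, fun v => hvq v (mem_univ v), ?_, htw, ?_⟩
  · intro i hi
    rcases lt_or_eq_of_le hi with hlt | rfl
    · obtain ⟨e, ⟨h1, -⟩ | ⟨-, h2⟩⟩ := hcross i hlt
      · exact ⟨_, h1⟩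
      · exact ⟨_, h2⟩
    · exact ⟨vq, rfl⟩
  · intro i j hi hj hij
    constructor
    · rintro ⟨e, he⟩
      have := hstep e
      omega
    · rintro (rfl | rfl)
      · obtain ⟨e, he⟩ := hcross i (by omega)
        exact ⟨e, he⟩
      · obtain ⟨e, he⟩ := hcross j (by omega)
        exact ⟨e, he.symm⟩

lemma exc_endCount {v : V} (h : IsExceptional ends w v) : (endCount ends univ v : ℤ) = 2 := by
  rw [← show ((cut ends {v} : ℕ) : ℤ) = 2 by rw [h.2.2]; rfl, cut_eq, endCount]
  push_cast
  apply Finset.sum_congr rfl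
  intro e _
  have := h.2.1 e
  by_cases a : (ends e).1 = v <;> by_cases b : (ends e).2 = v
  · exact absurd (Prod.ext a b) this
  all_goals simp [chi, a, b]

lemma exc_canDeg {v : V} (h : IsExceptional ends w v) :
    2 * (w v : ℤ) - 2 + (endCount ends univ v : ℤ) = 0 := by
  rw [exc_endCount h, h.1]; simp

/-- The other end of an edge. -/
def oth (ends : E → V × V) (v : V) (e : E) : V := if (ends e).1 = v then (ends e).2 else (ends e).1

lemma exc_pair {v : V} (h : IsExceptional ends w v) : ∃ e₁ e₂ : E, e₁ ≠ e₂ ∧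
    (∀ e, ((ends e).1 = v ∨ (ends e).2 = v) ↔ e = e₁ ∨ e = e₂) ∧
    (∀ e, e = e₁ ∨ e = e₂ → oth ends v e ≠ v ∧
      (ends e = (v, oth ends v e) ∨ ends e = (oth ends v e, v))) := by
  obtain ⟨e₁, e₂, hne, hset⟩ := Finset.card_eq_two.1 h.2.2
  have hiff : ∀ e, ((ends e).1 = v ∨ (ends e).2 = v) ↔ e = e₁ ∨ e = e₂ := by
    intro e
    have := congrArg (fun s => e ∈ s) hset
    simp only [mem_filter, mem_univ, true_and, mem_singleton, mem_insert, eq_iff_iff] at this
    rw [← this]
    have := h.2.1 e
    by_cases a : (ends e).1 = v <;> by_cases b : (ends e).2 = v <;> simp [a, b]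
    exact this (Prod.ext a b)
  refine ⟨e₁, e₂, hne, hiff, fun e he => ?_⟩
  have hv := (hiff e).2 he
  have hl := h.2.1 e
  unfold oth
  by_cases a : (ends e).1 = v
  · rw [if_pos a]
    exact ⟨fun b => hl (Prod.ext a b), Or.inl (Prod.ext a rfl)⟩
  · rw [if_neg a]
    exact ⟨a, Or.inr (Prod.ext rfl (hv.resolve_left a))⟩

lemma twist_exc {v : V} {e₁ e₂ : E} (hne : e₁ ≠ e₂)
    (hiff : ∀ e, ((ends e).1 = v ∨ (ends e).2 = v) ↔ e = e₁ ∨ e = e₂)
    (ho : ∀ e, e = e₁ ∨ e = e₂ → oth ends v e ≠ v ∧
      (ends e = (v, oth ends v e) ∨ ends e = (oth ends v e, v))) (φ : V → ℤ) :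
    twist ends φ v = φ (oth ends v e₁) + φ (oth ends v e₂) - 2 * φ v := by
  unfold twist
  rw [← Finset.sum_subset (Finset.subset_univ {e₁, e₂}) (fun e _ he => by
    simp only [mem_insert, mem_singleton] at he
    have := (hiff e).not.2 he
    push_neg at this
    simp [this.1, this.2]), Finset.sum_pair hne]
  have key : ∀ e, e = e₁ ∨ e = e₂ →
      ((if (ends e).1 = v then φ (ends e).2 - φ (ends e).1 else 0) +
      (if (ends e).2 = v then φ (ends e).1 - φ (ends e).2 else 0)) = φ (oth ends v e) - φ v := by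
    intro e he
    obtain ⟨h1, h2⟩ := ho e he
    generalize oth ends v e = u at h1 h2
    rcases h2 with h2 | h2 <;> rw [h2] <;> simp [h1]
  rw [key _ (Or.inl rfl), key _ (Or.inr rfl)]
  ring

theorem eq_of_strictly (hconn : LabGraph.Connected ends) (hg : 2 ≤ genus ends w) (d d' : V → ℤ)
    (hBI : SatisfiesBI ends w d)
    (hone : ∀ v : V, IsExceptional ends w v → d v = 1) (hone' : ∀ v : V, IsExceptional ends w v → d' v = 1)
    (hstrict : ∀ Y : Finset V, Y.Nonempty → Y ≠ Finset.univ →
      2 * (canDeg ends w Finset.univ * (∑ v ∈ Y, d v) - (∑ v, d v) * canDeg ends w Y)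
          = (cut ends Y : ℤ) * canDeg ends w Finset.univ →
      ∀ e : E, (((ends e).1 ∈ Y ∧ (ends e).2 ∉ Y) ∨ ((ends e).1 ∉ Y ∧ (ends e).2 ∈ Y)) →
        (IsExceptional ends w (ends e).1 ∨ IsExceptional ends w (ends e).2))
    (m : ℕ) (Z : Fin m → Finset V) (hmono : ∀ i j : Fin m, i ≤ j → Z i ⊆ Z j)
    (hext : ∀ i : Fin m, 2 * (canDeg ends w Finset.univ * (∑ v ∈ Z i, d v) - (∑ v, d v) * canDeg ends w (Z i))
          = (cut ends (Z i) : ℤ) * canDeg ends w Finset.univ)
    (hsum : ∀ v : V, d' v = d v + ∑ i : Fin m, twist ends (fun u => if u ∈ Z i then (1 : ℤ) else 0) v) :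
    d = d' := by
  classical
  have hK := canDeg_pos (ends := ends) hg
  set φ : V → ℤ := fun u => ∑ i : Fin m, if u ∈ Z i then (1 : ℤ) else 0 with hφ
  have htw : ∀ v, ∑ i : Fin m, twist ends (fun u => if u ∈ Z i then (1 : ℤ) else 0) v = twist ends φ v := by
    intro v
    simp only [twist]
    rw [Finset.sum_comm]
    apply Finset.sum_congr rfl
    intro e _
    simp only [hφ, Finset.sum_add_distrib]
    congr 1 <;> split_ifs <;> simp [Finset.sum_sub_distrib]
  suffices h0 : ∀ v, twist ends φ v = 0 by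
    funext v; rw [hsum v, htw, h0, add_zero]
  by_cases htriv : ∀ i, Z i = ∅ ∨ Z i = univ
  · intro v
    have hc : ∀ a b, φ a = φ b := by
      intro a b
      simp only [hφ]
      apply Finset.sum_congr rfl
      intro i _
      rcases htriv i with h | h <;> simp [h]
    simp only [twist]
    exact Finset.sum_eq_zero fun e _ => by simp [hc (ends e).1 (ends e).2]
  exfalso
  push_neg at htriv
  obtain ⟨i₁, hi₁, hi₁'⟩ := htriv
  obtain ⟨i, hi, himin⟩ := Finset.exists_min_image (univ.filter (fun i => (Z i).Nonempty)) id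
    ⟨i₁, by simp [hi₁]⟩
  simp only [mem_filter, mem_univ, true_and, id] at hi himin
  have hTne : Z i ≠ univ := fun h => hi₁' (Finset.eq_univ_of_forall fun v =>
    hmono i i₁ (himin i₁ hi₁) (h ▸ mem_univ v))
  have hmax : ∀ v ∈ Z i, ∀ u, φ u ≤ φ v := by
    intro v hv u
    apply Finset.sum_le_sum
    intro j _
    by_cases hj : u ∈ Z j
    · rw [if_pos hj, if_pos (hmono i j (himin j ⟨u, hj⟩) hv)]
    · rw [if_neg hj]; split_ifs <;> norm_num
  have hlt : ∀ v ∈ Z i, ∀ u, u ∉ Z i → φ u < φ v := by
    intro v hv u hu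
    apply Finset.sum_lt_sum
    · intro j _
      by_cases hj : u ∈ Z j
      · rw [if_pos hj, if_pos (hmono i j (himin j ⟨u, hj⟩) hv)]
      · rw [if_neg hj]; split_ifs <;> norm_num
    · exact ⟨i, mem_univ _, by simp [hu, hv]⟩
  -- a crossing edge
  obtain ⟨e, a, b, ha, hb, hab⟩ : ∃ e : E, ∃ a b, a ∈ Z i ∧ b ∉ Z i ∧ (ends e = (a, b) ∨ ends e = (b, a)) := by
    obtain ⟨v, hv⟩ := hi
    by_contra hc
    push_neg at hc
    apply hTne
    refine Finset.eq_univ_of_forall fun u => ?_
    induction hconn.2 v u with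
    | refl => exact hv
    | @tail x y _ hxy ih =>
      obtain ⟨e, he⟩ := hxy
      by_contra hy
      have := hc e x y ih hy
      tauto
  have hex : IsExceptional ends w a ∨ IsExceptional ends w b := by
    have := hstrict (Z i) hi hTne (hext i) e (by
      rcases hab with h | h <;> rw [h] <;> simp [ha, hb])
    rcases hab with h | h <;> rw [h] at this <;> simp only at this <;> tauto
  have hz : ∀ v, IsExceptional ends w v → twist ends φ v = 0 := by
    intro v hv
    have := hsum v
    rw [htw, hone v hv, hone' v hv] at this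
    linarith
  rcases hex with hexa | hexb
  · obtain ⟨e₁, e₂, hne, hiff, ho⟩ := exc_pair hexa
    have h := hz a hexa
    rw [twist_exc hne hiff ho] at h
    have he : e = e₁ ∨ e = e₂ := (hiff e).1 (by rcases hab with h' | h' <;> rw [h'] <;> simp)
    have hb' : oth ends a e = b := by
      rcases hab with h' | h'
      · simp [oth, h']
      · have : b ≠ a := fun hh => hb (hh ▸ ha)
        simp [oth, h', this]
    have := hlt a ha b hb
    have := hmax a ha (oth ends a e₁)
    have := hmax a ha (oth ends a e₂)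
    rcases he with he | he <;> rw [← he] at h <;> rw [hb'] at h <;> linarith
  · obtain ⟨e₁, e₂, hne, hiff, ho⟩ := exc_pair hexb
    have h := hz b hexb
    rw [twist_exc hne hiff ho] at h
    have he : e = e₁ ∨ e = e₂ := (hiff e).1 (by rcases hab with h' | h' <;> rw [h'] <;> simp)
    have ha' : oth ends b e = a := by
      rcases hab with h' | h'
      · have : a ≠ b := fun hh => hb (hh ▸ ha)
        simp [oth, h', this]
      · simp [oth, h']
    have hlab := hlt a ha b hb
    -- the other neighbour is outside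
    obtain ⟨e', he', hne', hall⟩ : ∃ e', (e' = e₁ ∨ e' = e₂) ∧ e' ≠ e ∧
        φ (oth ends b e) + φ (oth ends b e') = 2 * φ b := by
      rcases he with he | he
      · exact ⟨e₂, Or.inr rfl, fun h' => hne (he.symm.trans h'.symm), by rw [he]; linarith⟩
      · exact ⟨e₁, Or.inl rfl, fun h' => hne (h'.trans he), by rw [he]; linarith⟩
    have hout : oth ends b e' ∉ Z i := by
      intro hin
      have := hlt _ hin b hb
      rw [ha'] at hall
      linarith
    -- adding b to Z i violates the inequality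
    have hup := upper hBI (insert b (Z i))
    have heps : eps ends w d (insert b (Z i)) = eps ends w d (Z i) + canDeg ends w univ := by
      simp only [eps, canDeg, Finset.sum_insert hb, exc_canDeg hexb, hone b hexb]
      ring
    have hcut : (cut ends (insert b (Z i)) : ℤ) = cut ends (Z i) := by
      rw [cut_eq, cut_eq, ← sub_eq_zero, ← Finset.sum_sub_distrib,
        ← Finset.sum_subset (Finset.subset_univ {e, e'})]
      · rw [Finset.sum_pair hne'.symm]
        have hob := ho e' he'
        have hab' : a ≠ b := fun hh => hb (hh ▸ ha)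
        generalize oth ends b e' = c at hout hob
        obtain ⟨hcb, hc⟩ := hob
        rcases hab with h1 | h1 <;> rcases hc with h2 | h2 <;>
          simp [chi, h1, h2, ha, hb, hout, hcb, hab']
      · intro x _ hx
        simp only [mem_insert, mem_singleton, not_or] at hx
        have hnot : ¬ ((ends x).1 = b ∨ (ends x).2 = b) := by
          intro hh
          rcases (hiff x).1 hh with h' | h' <;> rcases he with g | g <;> rcases he' with g' | g' <;>
            simp_all
        push_neg at hnot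
        simp [chi, hnot.1, hnot.2]
    have := hext i
    rw [heps, hcut] at hup
    simp only [eps] at hup
    linarith

theorem pullback (hZ : IsQuasistableGraph ends w) (hg : 2 ≤ genus ends w) (S : Finset V)
    (hS : ∀ v ∈ S, IsExceptional ends w v) (dt : V → ℤ) (hzero : ∀ v ∈ S, dt v = 0)
    (hBI : ∀ W : Finset V, Disjoint W S →
      2 * |canDeg ends w Finset.univ * (∑ v ∈ W, dt v) - (∑ v, dt v) * canDeg ends w (Finset.univ.filter (fun v : V => v ∈ W ∨ (v ∈ S ∧ ∀ e : E, ((ends e).1 = v → (ends e).2 ∈ W) ∧ ((ends e).2 = v → (ends e).1 ∈ W))))|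
        ≤ (cut ends (Finset.univ.filter (fun v : V => v ∈ W ∨ (v ∈ S ∧ ∀ e : E, ((ends e).1 = v → (ends e).2 ∈ W) ∧ ((ends e).2 = v → (ends e).1 ∈ W)))) : ℤ) * canDeg ends w Finset.univ) :
    SatisfiesBI ends w dt := by
  classical
  intro Y
  set W := Y \ S with hW
  have h := hBI W (Finset.sdiff_disjoint)
  set T := Finset.univ.filter (fun v : V => v ∈ W ∨ (v ∈ S ∧ ∀ e : E, ((ends e).1 = v → (ends e).2 ∈ W) ∧ ((ends e).2 = v → (ends e).1 ∈ W))) with hT
  have hd : ∑ v ∈ W, dt v = ∑ v ∈ Y, dt v :=
    Finset.sum_subset Finset.sdiff_subset (fun v hv hv' => hzero v (by simpa [hW, hv] using hv'))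
  have hc : canDeg ends w T = canDeg ends w Y := by
    have hWT : W ⊆ T := fun v hv => by simp [hT, hv]
    unfold canDeg
    rw [← Finset.sum_subset hWT (fun v hv hv' => exc_canDeg (hS v (by
        simp only [hT, mem_filter, mem_univ, true_and] at hv; tauto))),
      Finset.sum_subset Finset.sdiff_subset (fun v hv hv' => exc_canDeg (hS v (by simpa [hW, hv] using hv')))]
  have hcut : (cut ends T : ℤ) ≤ cut ends Y := by
    rw [cut_eq, cut_eq]
    have hoff : ∀ v, v ∉ S → (v ∈ T ↔ v ∈ Y) := fun v hv => by simp [hT, hW, hv]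
    set at' : V → E → Prop := fun s e => (ends e).1 = s ∨ (ends e).2 = s with hat
    have hsplit : ∀ e, chi ends Y e - chi ends T e =
        ∑ s ∈ S, if at' s e then chi ends Y e - chi ends T e else 0 := by
      intro e
      by_cases hn : ∃ s ∈ S, at' s e
      · obtain ⟨s, hs, hse⟩ := hn
        rw [Finset.sum_eq_single s, if_pos hse]
        · intro t ht hts
          rw [if_neg]
          intro hte
          have h1 := (hS s hs).2.1 e
          have hne : (ends e).1 ≠ (ends e).2 := by
            intro hh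
            rcases hse with h' | h'
            · exact h1 (Prod.ext h' (hh ▸ h'))
            · exact h1 (Prod.ext (hh.trans h') h')
          apply hZ.2 e hne
          rcases hse with h' | h' <;> rcases hte with h'' | h''
          · exact absurd (h''.symm.trans h') hts
          · exact ⟨h' ▸ hS s hs, h'' ▸ hS t ht⟩
          · exact ⟨h'' ▸ hS t ht, h' ▸ hS s hs⟩
          · exact absurd (h''.symm.trans h') hts
        · exact fun h' => absurd hs h'
      · push_neg at hn
        rw [Finset.sum_eq_zero (fun s hs => if_neg (hn s hs))]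
        have h1 : (ends e).1 ∉ S := fun h' => hn _ h' (Or.inl rfl)
        have h2 : (ends e).2 ∉ S := fun h' => hn _ h' (Or.inr rfl)
        simp [chi, hoff _ h1, hoff _ h2]
    rw [← sub_nonneg, ← Finset.sum_sub_distrib, Finset.sum_congr rfl (fun e _ => hsplit e),
      Finset.sum_comm]
    apply Finset.sum_nonneg
    intro s hs
    obtain ⟨e₁, e₂, hne, hiff, ho⟩ := exc_pair (hS s hs)
    rw [← Finset.sum_subset (Finset.subset_univ {e₁, e₂}) (fun e _ he => by
      simp only [mem_insert, mem_singleton] at he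
      rw [if_neg]
      exact fun hh => he ((hiff e).1 hh)), Finset.sum_pair hne,
      if_pos ((hiff e₁).2 (Or.inl rfl)), if_pos ((hiff e₂).2 (Or.inr rfl))]
    obtain ⟨ha1, ha2⟩ := ho e₁ (Or.inl rfl)
    obtain ⟨hb1, hb2⟩ := ho e₂ (Or.inr rfl)
    have hsW : s ∉ W := by simp [hW, hs]
    have hsT : s ∈ T ↔ (oth ends s e₁ ∈ W ∧ oth ends s e₂ ∈ W) := by
      simp only [hT, mem_filter, mem_univ, true_and, hs, hsW, false_or]
      constructor
      · intro hh
        refine ⟨?_, ?_⟩
        · rcases ha2 with h' | h'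
          · have := (hh e₁).1 (by rw [h']); rw [h'] at this; exact this
          · have := (hh e₁).2 (by rw [h']); rw [h'] at this; exact this
        · rcases hb2 with h' | h'
          · have := (hh e₂).1 (by rw [h']); rw [h'] at this; exact this
          · have := (hh e₂).2 (by rw [h']); rw [h'] at this; exact this
      · rintro ⟨h1, h2⟩ e
        have hl := (hS s hs).2.1 e
        refine ⟨fun hh => ?_, fun hh => ?_⟩
        · rcases (hiff e).1 (Or.inl hh) with rfl | rfl
          · simpa [oth, hh] using h1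
          · simpa [oth, hh] using h2
        · have hne1 : (ends e).1 ≠ s := fun h' => hl (Prod.ext h' hh)
          rcases (hiff e).1 (Or.inr hh) with rfl | rfl
          · simpa [oth, hne1] using h1
          · simpa [oth, hne1] using h2
    have noS : ∀ e, e = e₁ ∨ e = e₂ → oth ends s e ∉ S := by
      intro e he hin
      obtain ⟨h1, h2⟩ := ho e he
      generalize oth ends s e = c at hin h1 h2
      rcases h2 with h2 | h2
      · exact hZ.2 e (by rw [h2]; exact h1.symm) (by rw [h2]; exact ⟨hS s hs, hS c hin⟩)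
      · exact hZ.2 e (by rw [h2]; exact h1) (by rw [h2]; exact ⟨hS c hin, hS s hs⟩)
    have na := noS e₁ (Or.inl rfl)
    have nb := noS e₂ (Or.inr rfl)
    generalize oth ends s e₁ = x at ha1 ha2 hsT na
    generalize oth ends s e₂ = y at hb1 hb2 hsT nb
    have xT := hoff x na
    have yT := hoff y nb
    have xW : x ∈ W ↔ x ∈ Y := by simp [hW, na]
    have yW : y ∈ W ↔ y ∈ Y := by simp [hW, nb]
    rcases ha2 with h1 | h1 <;> rcases hb2 with h2 | h2 <;>
      by_cases p : s ∈ Y <;> by_cases q : x ∈ Y <;> by_cases r : y ∈ Y <;>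
      simp [chi, h1, h2, p, q, r, xT, yT, hsT, xW, yW]
  rw [hd, hc] at h
  calc _ ≤ _ := h
    _ ≤ _ := mul_le_mul_of_nonneg_right hcut (canDeg_pos hg).le

end LeadLabGraph.BI
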