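import Groth.Agent.Lead.LabGraph.Trees

/-! Cartier labellings, circuit coprimality, blow-ups. -/

universe u v

open Finset

namespace LeadLabGraph

variable {V E : Type u} [Fintype V] [Fintype E] [DecidableEq V] [DecidableEq E]
variable {ends : E → V × V}

open LabGraph

/-- A function constant along all but one edge of an even set is constant along that edge. -/
lemma eq_across {X : Type*} {C : Finset E} {e : E} (he : e ∈ C)
    (hev : ∀ v, Even (endCount ends C v)) (h : V → X)
    (hh : ∀ e' ∈ C, e' ≠ e → h (ends e').1 = h (ends e').2) : h (ends e).1 = h (ends e).2 := by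
  classical
  by_contra hne
  set S := (univ : Finset V).filter (fun x => h x = h (ends e).1) with hS
  have hsum : Even (∑ x ∈ S, endCount ends C x) := by
    apply Finset.even_sum; exact fun x _ => hev x
  simp only [endCount] at hsum
  rw [Finset.sum_comm] at hsum
  simp only [Finset.sum_add_distrib, Finset.sum_ite_eq] at hsum
  rw [← Finset.sum_add_distrib, ← Finset.add_sum_erase _ _ he] at hsum
  have hev2 : Even (∑ e' ∈ C.erase e, ((if (ends e').1 ∈ S then 1 else 0) +
      if (ends e').2 ∈ S then 1 else 0)) := by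
    apply Finset.even_sum
    intro e' he'
    have := hh e' (Finset.mem_of_mem_erase he') (Finset.ne_of_mem_erase he')
    simp only [hS, mem_filter, mem_univ, true_and, this]
    split_ifs <;> decide
  rw [Nat.even_add] at hsum
  have h1 : (ends e).1 ∈ S := by simp [hS]
  have h2 : (ends e).2 ∉ S := by simpa [hS] using Ne.symm hne
  rw [if_pos h1, if_neg h2] at hsum
  have := hsum.2 hev2
  norm_num at this

lemma sum_boundary (φ : V → ℤ) (γ : E → ℤ) :
    ∑ v, φ v * boundary ends γ v = ∑ e, γ e * (φ (ends e).2 - φ (ends e).1) := by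
  simp only [boundary, Finset.mul_sum, mul_sub, mul_ite, mul_zero]
  rw [Finset.sum_comm]
  apply Finset.sum_congr rfl
  intro e _
  rw [Finset.sum_sub_distrib, Finset.sum_ite_eq, Finset.sum_ite_eq]
  simp; ring

/-- Potentials for vectors orthogonal to the cycles. -/
lemma exists_potential (hG : LabGraph.Connected ends) (z : E → ℤ)
    (hz : ∀ γ : E → ℤ, (∀ v, boundary ends γ v = 0) → ∑ e, γ e * z e = 0) :
    ∃ φ : V → ℤ, ∀ e, z e = φ (ends e).2 - φ (ends e).1 := by
  classical
  obtain ⟨r⟩ := hG.1
  have key : ∀ v, ∃ γ : E → ℤ, ∀ x, boundary ends γ x = (if v = x then 1 else 0) - (if r = x then 1 else 0) := by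
    intro v
    induction hG.2 r v with
    | refl => exact ⟨0, fun x => by simp [boundary]⟩
    | @tail b c _ hbc ih =>
      obtain ⟨γ, hγ⟩ := ih
      obtain ⟨e, he | he⟩ := hbc
      · refine ⟨γ + Pi.single e 1, fun x => ?_⟩
        have : boundary ends (γ + Pi.single e 1) x =
            boundary ends γ x + boundary ends (Pi.single e 1) x := by
          simp only [boundary, ← Finset.sum_add_distrib]
          apply Finset.sum_congr rfl; intro e' _; simp only [Pi.add_apply]; split_ifs <;> ring
        rw [this, hγ]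
        have h2 : boundary ends (Pi.single e 1) x = (if c = x then 1 else 0) - (if b = x then 1 else 0) := by
          rw [boundary, Finset.sum_eq_single e]
          · simp [he]
          · intro e' _ h; simp [h]
          · simp
        rw [h2]; ring
      · refine ⟨γ - Pi.single e 1, fun x => ?_⟩
        have : boundary ends (γ - Pi.single e 1) x =
            boundary ends γ x - boundary ends (Pi.single e 1) x := by
          simp only [boundary, ← Finset.sum_sub_distrib]
          apply Finset.sum_congr rfl; intro e' _; simp only [Pi.sub_apply]; split_ifs <;> ring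
        rw [this, hγ]
        have h2 : boundary ends (Pi.single e 1) x = (if b = x then 1 else 0) - (if c = x then 1 else 0) := by
          rw [boundary, Finset.sum_eq_single e]
          · simp [he]
          · intro e' _ h; simp [h]
          · simp
        rw [h2]; ring
  choose γ hγ using key
  refine ⟨fun v => ∑ e, γ v e * z e, fun e => ?_⟩
  have hcyc : ∀ x, boundary ends (γ (ends e).2 - γ (ends e).1 - Pi.single e 1) x = 0 := by
    intro x
    have : boundary ends (γ (ends e).2 - γ (ends e).1 - Pi.single e 1) x =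
        boundary ends (γ (ends e).2) x - boundary ends (γ (ends e).1) x -
          boundary ends (Pi.single e 1) x := by
      simp only [boundary, ← Finset.sum_sub_distrib]
      apply Finset.sum_congr rfl; intro e' _; simp only [Pi.sub_apply]; split_ifs <;> ring
    rw [this, hγ, hγ]
    have h2 : boundary ends (Pi.single e 1) x =
        (if (ends e).2 = x then 1 else 0) - (if (ends e).1 = x then 1 else 0) := by
      rw [boundary, Finset.sum_eq_single e]
      · simp
      · intro e' _ h; simp [h]
      · simp
    rw [h2]; ring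
  have := hz _ hcyc
  simp only [Pi.sub_apply, sub_mul, Finset.sum_sub_distrib] at this
  rw [Finset.sum_eq_single (f := fun x => (Pi.single e 1 : E → ℤ) x * z x) e (fun b _ h => by simp [h])
    (by simp)] at this
  simp only [Pi.single_eq_same, one_mul] at this
  linarith

/-- Every edge vector is a coboundary modulo the labels. -/
def CobSurj (ends : E → V × V) (l : E → ℕ) : Prop :=
  ∀ x : E → ℤ, ∃ (φ : V → ℤ) (y : E → ℤ), ∀ e, x e = (l e : ℤ) * y e + (φ (ends e).2 - φ (ends e).1)

lemma orth_iff_cobSurj (hG : LabGraph.Connected ends) (l : E → ℕ) :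
    (∀ x : E → ℤ, ∃ y : E → ℤ, ∀ γ : E → ℤ, (∀ v : V, boundary ends γ v = 0) →
        ∑ e : E, γ e * (x e - (l e : ℤ) * y e) = 0) ↔ CobSurj ends l := by
  constructor
  · intro h x
    obtain ⟨y, hy⟩ := h x
    obtain ⟨φ, hφ⟩ := exists_potential hG _ hy
    exact ⟨φ, y, fun e => by linarith [hφ e]⟩
  · intro h x
    obtain ⟨φ, y, hy⟩ := h x
    refine ⟨y, fun γ hγ => ?_⟩
    have : ∀ e, x e - (l e : ℤ) * y e = φ (ends e).2 - φ (ends e).1 := fun e => by linarith [hy e]
    simp only [this, ← sum_boundary, hγ, mul_zero, Finset.sum_const_zero]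

lemma exists_chain {a b : V} {T : Finset E} (h : Relation.ReflTransGen (AdjIn ends T) a b) :
    ∃ γ : E → ZMod 2, (∀ e, e ∉ T → γ e = 0) ∧
      ∀ x, par ends γ x = (if a = x then 1 else 0) + (if b = x then 1 else 0) := by
  induction h with
  | refl => exact ⟨0, fun _ _ => rfl, fun x => by rw [CharTwo.add_self_eq_zero]; simp [par]⟩
  | @tail b c _ hbc ih =>
    obtain ⟨γ, h1, h2⟩ := ih
    obtain ⟨e, he, he'⟩ := hbc
    refine ⟨γ + Pi.single e 1, fun e' he'' => ?_, fun x => ?_⟩
    · have : e' ≠ e := fun h => he'' (h ▸ he)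
      simp [h1 e' he'', this]
    · rw [par_add, h2, par_single]
      set A : ZMod 2 := if a = x then 1 else 0
      set B : ZMod 2 := if b = x then 1 else 0
      set C : ZMod 2 := if c = x then 1 else 0
      rcases he' with h | h <;> rw [h] <;> simp only <;>
      · have := CharTwo.add_self_eq_zero B
        linear_combination this

theorem circuitCoprime_iff_cobSurj (l : E → ℕ) (hl : ∀ e, 0 < l e) :
    IsCircuitCoprime ends l ↔ CobSurj ends l := by
  classical
  constructor
  · intro hc
    let M : Submodule ℤ (E → ℤ) :=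
      { carrier := {x | ∃ (φ : V → ℤ) (y : E → ℤ), ∀ e, x e = (l e : ℤ) * y e + (φ (ends e).2 - φ (ends e).1)}
        zero_mem' := ⟨0, 0, fun e => by simp⟩
        add_mem' := fun {a b} ⟨φ, y, h⟩ ⟨φ', y', h'⟩ => ⟨φ + φ', y + y', fun e => by
          simp only [Pi.add_apply, h e, h' e]; ring⟩
        smul_mem' := fun c a ⟨φ, y, h⟩ => ⟨c • φ, c • y, fun e => by
          simp only [Pi.smul_apply, smul_eq_mul, h e]; ring⟩ }
    have hbase : ∀ e₀, Pi.single e₀ (1 : ℤ) ∈ M := by
      intro e₀
      let I : Ideal ℤ := M.comap (LinearMap.single ℤ (fun _ : E => ℤ) e₀)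
      suffices (1 : ℤ) ∈ I by simpa [I] using this
      by_contra hI
      have hne : I ≠ ⊤ := fun h => hI (h ▸ trivial)
      obtain ⟨P, hP, hIP⟩ := Ideal.exists_le_maximal I hne
      obtain ⟨g, hg⟩ := (inferInstance : P.IsPrincipal).principal
      have hl0 : (l e₀ : ℤ) ∈ I := by
        refine ⟨0, Pi.single e₀ 1, fun e => ?_⟩
        rcases eq_or_ne e e₀ with rfl | h
        · simp
        · simp [h]
      have hg0 : g ≠ 0 := by
        intro h
        have := hIP hl0
        rw [hg, h, Submodule.mem_span_singleton] at this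
        obtain ⟨c, hc⟩ := this
        have := hl e₀
        simp at hc
        omega
      have hgp : Prime g := by
        rw [← Ideal.span_singleton_prime hg0]
        rw [show Ideal.span {g} = P from hg.symm]
        exact hP.isPrime
      set p := g.natAbs with hp
      have hpp : p.Prime := Int.prime_iff_natAbs_prime.1 hgp
      have hdvd : ∀ a ∈ I, (p : ℤ) ∣ a := by
        intro a ha
        have h := hIP ha
        rw [hg] at h
        exact Int.natAbs_dvd.2 (Ideal.mem_span_singleton.1 h)
      have hpl : p ∣ l e₀ := Int.natCast_dvd_natCast.1 (hdvd _ hl0)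
      set T := (univ : Finset E).filter (fun e => p ∣ l e ∧ e ≠ e₀) with hT
      set S := fun x => Relation.ReflTransGen (AdjIn ends T) (ends e₀).2 x with hS
      have hnot : ¬ S (ends e₀).1 := by
        intro h
        obtain ⟨γ, h1, h2⟩ := exists_chain h
        have he₀T : e₀ ∉ T := by simp [hT]
        set γ' := γ + Pi.single e₀ 1 with hγ'
        have hev : ∀ v, Even (endCount ends (univ.filter (fun e => γ' e = 1)) v) := by
          intro v
          rw [even_iff_par]
          have hfun : (fun e' => if e' ∈ univ.filter (fun e' => γ' e' = 1) then (1 : ZMod 2) else 0) = γ' := by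
            funext e'
            have h2 : ∀ z : ZMod 2, (if z = 1 then 1 else 0) = z := by decide
            simpa using h2 (γ' e')
          rw [hfun, hγ', par_add, par_single, h2]
          set A : ZMod 2 := if (ends e₀).1 = v then 1 else 0
          set B : ZMod 2 := if (ends e₀).2 = v then 1 else 0
          linear_combination CharTwo.add_self_eq_zero A + CharTwo.add_self_eq_zero B
        obtain ⟨C, hC1, hC2⟩ := exists_circuit_subset ends _
          ⟨e₀, by simp [hγ', h1 e₀ he₀T]⟩ hev
        have hgcd : p ∣ C.gcd l := by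
          apply Finset.dvd_gcd
          intro e he
          have := hC1 he
          simp only [mem_filter, mem_univ, true_and] at this
          by_cases he0 : e = e₀
          · rw [he0]; exact hpl
          · by_contra hnd
            have : γ' e = 0 := by simp [hγ', he0, h1 e (by simp [hT, hnd])]
            simp_all
        rw [hc C hC2] at hgcd
        exact hpp.not_dvd_one hgcd
      set N : ℤ := ∏ e ∈ univ.filter (fun e => ¬ p ∣ l e), (l e : ℤ) with hN
      have hNI : N ∈ I := by
        refine ⟨fun x => if S x then N else 0, fun e =>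
          if e = e₀ then 0 else
            ((if S (ends e).1 then N else 0) - (if S (ends e).2 then N else 0)) / (l e : ℤ), fun e => ?_⟩
        simp only [LinearMap.coe_single]
        by_cases he : e = e₀
        · subst he
          rw [if_pos rfl, if_pos (show S (ends e).2 from Relation.ReflTransGen.refl), if_neg hnot]
          simp
        · rw [if_neg he, Pi.single_eq_of_ne he]
          by_cases hpe : p ∣ l e
          · have hiff : S (ends e).1 ↔ S (ends e).2 := by
              have heT : e ∈ T := by simp [hT, hpe, he]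
              exact ⟨fun h => h.tail ⟨e, heT, Or.inl rfl⟩, fun h => h.tail ⟨e, heT, Or.inr rfl⟩⟩
            simp only [hiff, sub_self, Int.zero_ediv, mul_zero, add_zero]
          · have hdN : (l e : ℤ) ∣ N := Finset.dvd_prod_of_mem _ (by simp [hpe])
            have hd : (l e : ℤ) ∣ (if S (ends e).1 then N else 0) - (if S (ends e).2 then N else 0) :=
              dvd_sub (by split_ifs <;> simp [hdN]) (by split_ifs <;> simp [hdN])
            rw [Int.mul_ediv_cancel' hd]; ring
      have := hdvd N hNI
      rw [hN] at this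
      obtain ⟨e, he, hde⟩ := (Nat.prime_iff_prime_int.1 hpp).exists_mem_finset_dvd this
      simp only [mem_filter, mem_univ, true_and] at he
      exact he (Int.natCast_dvd_natCast.1 hde)
    intro x
    have : x ∈ M := by
      rw [← Finset.univ_sum_single x]
      refine Submodule.sum_mem _ fun e _ => ?_
      have : Pi.single e (x e) = x e • (Pi.single e 1 : E → ℤ) := by
        rw [← Pi.single_smul']; simp
      rw [this]
      exact M.smul_mem _ (hbase e)
    exact this
  · intro hs C hC
    by_contra hne
    obtain ⟨p, hp, hpd⟩ := Nat.exists_prime_and_dvd hne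
    obtain ⟨e₀, he₀⟩ := hC.1
    obtain ⟨φ, y, hy⟩ := hs (Pi.single e₀ 1)
    haveI := Fact.mk hp
    have key := eq_across (ends := ends) he₀ hC.2.1 (fun v => ((φ v : ℤ) : ZMod p)) (fun e he hee => by
      have h0 := hy e
      rw [Pi.single_eq_of_ne hee] at h0
      have := congrArg (fun t : ℤ => (t : ZMod p)) h0
      simp only [Int.cast_zero, Int.cast_add, Int.cast_mul, Int.cast_sub, Int.cast_natCast,
        (ZMod.natCast_eq_zero_iff _ _).2 (hpd.trans (Finset.gcd_dvd he))] at this
      simp only [zero_mul, zero_add] at this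
      exact (sub_eq_zero.1 this.symm).symm)
    have h1 := congrArg (fun t : ℤ => (t : ZMod p)) (hy e₀)
    simp only [Pi.single_eq_same, Int.cast_one, Int.cast_add, Int.cast_mul, Int.cast_sub,
      Int.cast_natCast, (ZMod.natCast_eq_zero_iff _ _).2 (hpd.trans (Finset.gcd_dvd he₀)),
      zero_mul, zero_add] at h1
    rw [key, sub_self] at h1
    exact one_ne_zero h1

lemma mdeg_eq_flow {l : E → ℕ} {φ : V → ℤ} (hφ : IsCartier ends l φ) (v : V) :
    mdeg ends l φ v = -boundary ends (fun e => (φ (ends e).2 - φ (ends e).1) / (l e : ℤ)) v := by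
  simp only [mdeg, boundary, ← Finset.sum_neg_distrib]
  apply Finset.sum_congr rfl
  intro e _
  have : (φ (ends e).1 - φ (ends e).2) / (l e : ℤ) = -((φ (ends e).2 - φ (ends e).1) / (l e : ℤ)) := by
    rw [← Int.neg_ediv_of_dvd (by rw [← dvd_neg, neg_sub]; exact hφ e), neg_sub]
  rw [this]
  split_ifs <;> ring

theorem mdeg_eq_zero_iff {l : E → ℕ} (hl : ∀ e, 0 < l e) (hG : LabGraph.Connected ends)
    (φ : V → ℤ) (hφ : IsCartier ends l φ) :
    (∀ v : V, mdeg ends l φ v = 0) ↔ ∀ v w : V, φ v = φ w := by
  constructor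
  · intro h
    set q : E → ℤ := fun e => (φ (ends e).2 - φ (ends e).1) / (l e : ℤ) with hq
    have h0 : ∑ v, φ v * boundary ends q v = 0 := by
      apply Finset.sum_eq_zero
      intro v _
      have := h v
      rw [mdeg_eq_flow hφ, neg_eq_zero] at this
      rw [this, mul_zero]
    rw [sum_boundary] at h0
    have hd : ∀ e, φ (ends e).2 - φ (ends e).1 = (l e : ℤ) * q e := fun e => by
      rw [hq, Int.mul_ediv_cancel' (by rw [← dvd_neg, neg_sub]; exact hφ e)]
    simp only [hd] at h0
    have hq0 : ∀ e, q e = 0 := by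
      intro e
      have := (Finset.sum_eq_zero_iff_of_nonneg (fun e _ => by
        have := hl e
        nlinarith [mul_self_nonneg (q e)])).1 h0 e (mem_univ e)
      rcases mul_eq_zero.1 this with h | h
      · exact h
      · rcases mul_eq_zero.1 h with h | h
        · have := hl e; omega
        · exact h
    intro v w
    induction hG.2 v w with
    | refl => rfl
    | tail _ hab ih =>
      obtain ⟨e, he | he⟩ := hab <;>
      · have := hd e
        rw [he, hq0, mul_zero] at this
        simp only at this
        rw [ih]; linarith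
  · intro h v
    rw [mdeg]
    apply Finset.sum_eq_zero
    intro e _
    rw [h (ends e).2 (ends e).1]
    simp

/-! ### Blow-up -/

variable {l : E → ℕ}

lemma pathVert_zero (e : E) : pathVert ends l e 0 = Sum.inl (ends e).1 := by simp [pathVert]

lemma pathVert_end (hl : ∀ e, 0 < l e) (e : E) : pathVert ends l e (l e) = Sum.inl (ends e).2 := by
  have := hl e
  simp [pathVert, this.ne']

lemma pathVert_mid (e : E) {j : ℕ} (h0 : 0 < j) (h : j < l e) :
    pathVert ends l e j = Sum.inr ⟨e, ⟨j - 1, by omega⟩⟩ := by
  simp [pathVert, h0.ne', h]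

lemma pathVert_eq_inr {e e₀ : E} {j : ℕ} {i : Fin (l e₀ - 1)} :
    pathVert ends l e j = Sum.inr ⟨e₀, i⟩ ↔ e = e₀ ∧ j = (i : ℕ) + 1 := by
  constructor
  · intro h
    unfold pathVert at h
    split_ifs at h with h0 h1
    simp only [Sum.inr.injEq, Sigma.mk.injEq] at h
    obtain ⟨rfl, h⟩ := h
    exact ⟨rfl, by have := congrArg Fin.val (eq_of_heq h); simp at this; omega⟩
  · rintro ⟨rfl, rfl⟩
    have := i.isLt
    rw [pathVert_mid e (by omega) (by omega)]
    simp

lemma pathVert_eq_inl (hl : ∀ e, 0 < l e) {e : E} {j : ℕ} (hj : j ≤ l e) {v : V} :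
    pathVert ends l e j = Sum.inl v ↔ (j = 0 ∧ (ends e).1 = v) ∨ (j = l e ∧ (ends e).2 = v) := by
  have := hl e
  unfold pathVert
  split_ifs with h0 h1
  · subst h0; simp [this.ne]
  · simp [h0, h1.ne]
  · have hje : j = l e := by omega
    subst hje; simp [this.ne']

lemma mdeg_bl_inr (ψ : BlVert V E l → ℤ) (e : E) (i : Fin (l e - 1)) :
    mdeg (blEnds ends l) (fun _ => 1) ψ (Sum.inr ⟨e, i⟩) =
      ψ (pathVert ends l e i) + ψ (pathVert ends l e (i + 2)) - 2 * ψ (pathVert ends l e (i + 1)) := by
  simp only [mdeg, Fintype.sum_sigma, blEnds, Int.cast_ofNat, Nat.cast_one, Int.ediv_one, pathVert_eq_inr]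
  rw [Finset.sum_eq_single e]
  · have := i.isLt
    simp only [true_and, Nat.add_right_cancel_iff, Finset.sum_add_distrib]
    rw [Finset.sum_eq_single (⟨i + 1, by omega⟩ : Fin (l e)) (fun k _ hk => if_neg (fun h => hk (Fin.ext h)))
      (by simp), Finset.sum_eq_single (⟨i, by omega⟩ : Fin (l e))
      (fun k _ hk => if_neg (fun h => hk (Fin.ext h))) (by simp)]
    simp only [if_pos rfl]
    simp only [show (i : ℕ) + 1 + 1 = i + 2 from rfl, if_true]
    ring
  · intro e' _ h; simp [h]
  · simp

lemma mdeg_bl_inl (hl : ∀ e, 0 < l e) (ψ : BlVert V E l → ℤ) (v : V) :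
    mdeg (blEnds ends l) (fun _ => 1) ψ (Sum.inl v) =
      ∑ e, ((if (ends e).1 = v then ψ (pathVert ends l e 1) - ψ (pathVert ends l e 0) else 0) +
        (if (ends e).2 = v then ψ (pathVert ends l e (l e - 1)) - ψ (pathVert ends l e (l e)) else 0)) := by
  simp only [mdeg, Fintype.sum_sigma, blEnds, Nat.cast_one, Int.ediv_one]
  apply Finset.sum_congr rfl
  intro e _
  have := hl e
  rw [Finset.sum_add_distrib]
  congr 1
  · rw [Finset.sum_eq_single (⟨0, this⟩ : Fin (l e))]
    · simp [pathVert_zero]
    · intro k _ hk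
      rw [if_neg]
      rw [pathVert_eq_inl hl k.isLt.le]
      rintro (⟨h, -⟩ | ⟨h, -⟩)
      · exact hk (Fin.ext h)
      · have := k.isLt; omega
    · simp
  · rw [Finset.sum_eq_single (⟨l e - 1, by omega⟩ : Fin (l e))]
    · have h1 : l e - 1 + 1 = l e := by omega
      simp only [h1, pathVert_end hl]
      simp
    · intro k _ hk
      rw [if_neg]
      rw [pathVert_eq_inl hl k.isLt]
      rintro (⟨h, -⟩ | ⟨h, -⟩)
      · omega
      · exact hk (Fin.ext (by simp; omega))
    · simp

theorem exists_cartier_of_bl (hl : ∀ e, 0 < l e) (α : V → ℤ) (ψ : BlVert V E l → ℤ)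
    (hψ : ∀ w : BlVert V E l,
      mdeg (blEnds ends l) (fun _ => 1) ψ w = Sum.elim α (fun _ => (0 : ℤ)) w) :
    ∃ φ : V → ℤ, IsCartier ends l φ ∧ ∀ v : V, mdeg ends l φ v = α v := by
  set φ : V → ℤ := fun v => ψ (Sum.inl v) with hφ
  set d : E → ℤ := fun e => ψ (pathVert ends l e 1) - ψ (pathVert ends l e 0) with hd
  have hlin : ∀ e, ∀ j : ℕ, j ≤ l e → ψ (pathVert ends l e j) = ψ (pathVert ends l e 0) + j * d e := by
    intro e j
    induction j using Nat.strong_induction_on with
    | _ j ih =>
      intro hj
      match j with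
      | 0 => simp
      | 1 => simp [hd]
      | j + 2 =>
        have h1 := hψ (Sum.inr ⟨e, ⟨j, by omega⟩⟩)
        rw [mdeg_bl_inr] at h1
        simp only [Sum.elim_inr] at h1
        rw [ih j (by omega) (by omega), ih (j + 1) (by omega) (by omega)] at h1
        push_cast at h1 ⊢
        linarith
  have hjump : ∀ e, φ (ends e).2 - φ (ends e).1 = (l e : ℤ) * d e := by
    intro e
    have := hlin e (l e) le_rfl
    rw [pathVert_end hl, pathVert_zero] at this
    simp only [hφ]; linarith
  have hC : IsCartier ends l φ := fun e => ⟨-d e, by linarith [hjump e]⟩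
  refine ⟨φ, hC, fun v => ?_⟩
  have h1 := hψ (Sum.inl v)
  rw [mdeg_bl_inl hl, Sum.elim_inl] at h1
  rw [← h1, mdeg]
  apply Finset.sum_congr rfl
  intro e _
  have hne : (l e : ℤ) ≠ 0 := by have := hl e; omega
  have hle := hl e
  have e1 : (φ (ends e).1 - φ (ends e).2) = (l e : ℤ) * -d e := by linarith [hjump e]
  rw [hjump, e1, Int.mul_ediv_cancel_left _ hne, Int.mul_ediv_cancel_left _ hne,
    hlin e (l e) le_rfl, hlin e (l e - 1) (by omega)]
  push_cast [Nat.cast_sub (show 1 ≤ l e by omega)]
  simp only [hd]
  split_ifs <;> ring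

theorem bl_surjective_iff (hl : ∀ e, 0 < l e) :
    (∀ β : BlVert V E l → ℤ, ∃ (ψ : BlVert V E l → ℤ) (α : V → ℤ),
        ∀ w : BlVert V E l,
          mdeg (blEnds ends l) (fun _ => 1) ψ w + β w = Sum.elim α (fun _ => (0 : ℤ)) w) ↔
      IsCircuitCoprime ends l := by
  rw [circuitCoprime_iff_cobSurj l hl]
  constructor
  · intro h x
    -- prescribe `-x` at the last new vertex of every path
    obtain ⟨ψ, α, hψ⟩ := h (Sum.elim 0 fun s => if (s.2 : ℕ) + 2 = l s.1 then x s.1 else 0)
    refine ⟨fun v => -ψ (Sum.inl v), fun e => if l e = 1 then x e + (ψ (Sum.inl (ends e).2) - ψ (Sum.inl (ends e).1))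
      else ψ (pathVert ends l e 1) - ψ (pathVert ends l e 0), fun e => ?_⟩
    by_cases h1 : l e = 1
    · dsimp only
      rw [if_pos h1, h1]; push_cast; ring
    · dsimp only
      rw [if_neg h1]
      have hle := hl e
      set d := ψ (pathVert ends l e 1) - ψ (pathVert ends l e 0) with hd
      have hlin : ∀ j : ℕ, j < l e → ψ (pathVert ends l e j) = ψ (pathVert ends l e 0) + j * d := by
        intro j
        induction j using Nat.strong_induction_on with
        | _ j ih =>
          intro hj
          match j with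
          | 0 => simp
          | 1 => simp [hd]
          | j + 2 =>
            have h1 := hψ (Sum.inr ⟨e, ⟨j, by omega⟩⟩)
            rw [mdeg_bl_inr] at h1
            simp only [Sum.elim_inr] at h1
            rw [if_neg (by omega), ih j (by omega) (by omega), ih (j + 1) (by omega) (by omega)] at h1
            push_cast at h1 ⊢
            linarith
      have hl2 := hψ (Sum.inr ⟨e, ⟨l e - 2, by omega⟩⟩)
      rw [mdeg_bl_inr] at hl2
      simp only [Sum.elim_inr] at hl2
      rw [if_pos (by omega), hlin (l e - 2) (by omega), hlin (l e - 2 + 1) (by omega),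
        show l e - 2 + 2 = l e by omega, pathVert_end hl, pathVert_zero] at hl2
      push_cast [Nat.cast_sub (show 2 ≤ l e by omega)] at hl2
      linarith
  · intro h β
    -- a particular solution along every path
    let P : E → ℕ → ℤ × ℤ := fun e n => Nat.rec ((0 : ℤ), (0 : ℤ))
      (fun k p => (p.2, 2 * p.2 - p.1 -
        (if hk : k < l e - 1 then β (Sum.inr ⟨e, ⟨k, hk⟩⟩) else 0))) n
    let p : E → ℕ → ℤ := fun e n => (P e n).1
    have hp : ∀ e k, ∀ hk : k < l e - 1, p e k + p e (k + 2) - 2 * p e (k + 1) = -β (Sum.inr ⟨e, ⟨k, hk⟩⟩) := by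
      intro e k hk
      show (P e k).1 + (2 * (P e k).2 - (P e k).1 - (if hk' : k < l e - 1 then β (Sum.inr ⟨e, ⟨k, hk'⟩⟩) else 0)) -
        2 * (P e k).2 = _
      rw [dif_pos hk]; ring
    obtain ⟨φ, y, hy⟩ := h (fun e => p e (l e))
    set ψ : BlVert V E l → ℤ := Sum.elim φ (fun s => φ (ends s.1).1 + p s.1 (s.2 + 1) - ((s.2 : ℕ) + 1) * y s.1)
      with hψ
    have hval : ∀ e (j : ℕ), j ≤ l e → ψ (pathVert ends l e j) = φ (ends e).1 + p e j - j * y e := by
      intro e j hj
      rcases Nat.eq_zero_or_pos j with rfl | h0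
      · simp [pathVert_zero, hψ, p, P]
      · rcases Nat.lt_or_ge j (l e) with hlt | hge
        · rw [pathVert_mid e h0 hlt]
          simp only [hψ, Sum.elim_inr]
          rw [Nat.sub_add_cancel h0]
          push_cast [Nat.cast_sub h0]
          ring
        · have : j = l e := le_antisymm hj hge
          subst this
          rw [pathVert_end hl]
          simp only [hψ, Sum.elim_inl]
          have := hy e
          linarith
    refine ⟨ψ, fun v => mdeg (blEnds ends l) (fun _ => 1) ψ (Sum.inl v) + β (Sum.inl v), fun w => ?_⟩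
    rcases w with v | ⟨e, i⟩
    · rfl
    · have := i.isLt
      rw [mdeg_bl_inr, hval e i (by omega), hval e (i + 2) (by omega), hval e (i + 1) (by omega),
        Sum.elim_inr]
      have := hp e i i.isLt
      push_cast
      linarith

theorem cartier_mem_span (hl : ∀ e, 0 < l e) (f : V → ℤ) (hf : IsCartier ends l f) :
    f ∈ Submodule.span ℤ {g : V → ℤ | ∃ n : ℕ, 0 < n ∧ (∀ v, (n : ℤ) ∣ g v) ∧
      ∀ e, ¬ (l e ∣ n) → g (ends e).1 = g (ends e).2} := by
  classical
  set G := Submodule.span ℤ {g : V → ℤ | ∃ n : ℕ, 0 < n ∧ (∀ v, (n : ℤ) ∣ g v) ∧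
      ∀ e, ¬ (l e ∣ n) → g (ends e).1 = g (ends e).2}
  let I : Ideal ℤ := G.comap (LinearMap.toSpanSingleton ℤ (V → ℤ) f)
  suffices (1 : ℤ) ∈ I by simpa [I] using this
  by_contra hI
  have hne : I ≠ ⊤ := fun h => hI (h ▸ trivial)
  obtain ⟨P, hP, hIP⟩ := Ideal.exists_le_maximal I hne
  obtain ⟨g, hg⟩ := (inferInstance : P.IsPrincipal).principal
  -- some prime contained
  have step : ∀ p : ℕ, p.Prime → ∃ N : ℕ, ¬ p ∣ N ∧ (N : ℤ) ∈ I := by
    intro p hp
    set L := ∏ e, l e with hL
    have hL0 : L ≠ 0 := Finset.prod_ne_zero_iff.2 fun e _ => (hl e).ne'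
    set N := L / p ^ L.factorization p with hN
    have hN0 : 0 < N := Nat.ordCompl_pos p hL0
    refine ⟨N, Nat.not_dvd_ordCompl hp hL0, ?_⟩
    have hdvd : ∀ e k, ¬ p ^ (k + 1) ∣ l e → l e ∣ N * p ^ k := by
      intro e k hk
      have h1 : (l e) / p ^ (l e).factorization p ∣ N :=
        Nat.ordCompl_dvd_ordCompl_of_dvd (Finset.dvd_prod_of_mem l (mem_univ e)) p
      have h2 : (l e).factorization p ≤ k := by
        by_contra hc
        exact hk ((pow_dvd_pow p (by omega)).trans (Nat.ordProj_dvd (l e) p))
      calc l e = (l e) / p ^ (l e).factorization p * p ^ (l e).factorization p := by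
            rw [mul_comm]; exact (Nat.ordProj_mul_ordCompl_eq_self (l e) p).symm
        _ ∣ N * p ^ k := mul_dvd_mul h1 (pow_dvd_pow p h2)
    have hind : ∀ k : ℕ, ∃ r : V → ℤ, (∀ v, ((p : ℤ) ^ k) ∣ r v) ∧ (N : ℤ) • (f - r) ∈ G ∧
        ∀ e, p ^ (k + 1) ∣ l e → ((p : ℤ) ^ (k + 1)) ∣ r (ends e).1 - r (ends e).2 ∧
          ∀ j, k + 1 ≤ j → p ^ j ∣ l e → ((p : ℤ) ^ j) ∣ r (ends e).1 - r (ends e).2 := by
      intro k
      induction k with
      | zero =>
        refine ⟨f, fun v => by simp, by simp, fun e he => ?_⟩
        have hall : ∀ j, p ^ j ∣ l e → ((p : ℤ) ^ j) ∣ f (ends e).1 - f (ends e).2 := fun j hj =>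
          dvd_trans (by exact_mod_cast hj) (hf e)
        exact ⟨hall _ he, fun j _ hj => hall j hj⟩
      | succ k ih =>
        obtain ⟨r, h1, h2, h3⟩ := ih
        set c : V → ℤ := fun v => r v % (p : ℤ) ^ (k + 1) with hc
        have hce : ∀ e, p ^ (k + 1) ∣ l e → c (ends e).1 = c (ends e).2 := fun e he =>
          Int.emod_eq_emod_iff_emod_sub_eq_zero.2 (Int.emod_eq_zero_of_dvd (h3 e he).1)
        refine ⟨r - c, fun v => ?_, ?_, fun e he => ?_⟩
        · exact ⟨r v / (p : ℤ) ^ (k + 1), by simp only [Pi.sub_apply, hc]; rw [Int.emod_def]; ring⟩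
        · have : (N : ℤ) • (f - (r - c)) = (N : ℤ) • (f - r) + (N : ℤ) • c := by
            rw [← smul_add]; congr 1; abel
          rw [this]
          refine G.add_mem h2 (Submodule.subset_span ⟨N * p ^ k, Nat.mul_pos hN0 (pow_pos hp.pos k), fun v => ?_, fun e he => ?_⟩)
          · simp only [Pi.smul_apply, smul_eq_mul]
            push_cast
            apply mul_dvd_mul_left
            simp only [hc, Int.emod_def]
            exact dvd_sub (h1 v) (Dvd.dvd.mul_right (pow_dvd_pow _ (by omega)) _)
          · simp only [Pi.smul_apply]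
            rw [hce e (by by_contra h; exact he (hdvd e k h))]
        · have he' : p ^ (k + 1) ∣ l e := (pow_dvd_pow p (by omega)).trans he
          have key : ∀ j, k + 1 + 1 ≤ j → p ^ j ∣ l e →
              ((p : ℤ) ^ j) ∣ (r - c) (ends e).1 - (r - c) (ends e).2 := by
            intro j hj hjd
            simp only [Pi.sub_apply, hce e he']
            have := (h3 e he').2 j (by omega) hjd
            convert this using 1; ring
          exact ⟨key _ le_rfl he, key⟩
    obtain ⟨r, h1, h2, -⟩ := hind (L.factorization p)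
    have h3 : (N : ℤ) • r ∈ G := by
      refine Submodule.subset_span ⟨L, Nat.pos_of_ne_zero hL0, fun v => ?_, fun e he => ?_⟩
      · simp only [Pi.smul_apply, smul_eq_mul]
        have : (L : ℤ) = (N : ℤ) * (p : ℤ) ^ L.factorization p := by
          rw [hN]
          have := Nat.ordProj_mul_ordCompl_eq_self L p
          rw [mul_comm] at this
          exact_mod_cast this.symm
        rw [this]
        exact mul_dvd_mul_left _ (h1 v)
      · exact absurd (Finset.dvd_prod_of_mem l (mem_univ e)) he
    have := G.add_mem h2 h3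
    rw [← smul_add, sub_add_cancel] at this
    simpa [I] using this
  by_cases hgu : IsUnit g
  · exact hP.ne_top (by rw [hg]; exact Ideal.span_singleton_eq_top.2 hgu)
  · have : g.natAbs ≠ 1 := fun h => hgu (Int.isUnit_iff_natAbs_eq.2 h)
    obtain ⟨p, hp, hpg⟩ := Nat.exists_prime_and_dvd this
    obtain ⟨N, hN, hNI⟩ := step p hp
    have h := hIP hNI
    rw [hg] at h
    have : (p : ℤ) ∣ (N : ℤ) := dvd_trans (Int.natCast_dvd.2 hpg) (Ideal.mem_span_singleton.1 h)
    exact hN (Int.natCast_dvd_natCast.1 this)

theorem cartier_mem_closure {L : Type v} (lab : E → L) (n : E → ℕ)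
    (hconn : LabGraph.Connected ends)
    (hcirc : ∀ C : Finset E, IsCircuit ends C → ∀ e ∈ C, ∀ e' ∈ C, lab e = lab e')
    (f : V → ℤ) (hf : IsCartier ends n f) :
    f ∈ AddSubmonoid.closure {g : V → ℤ | IsCartier ends n g ∧ (∃ B : Finset E, (∀ e ∈ B, ∀ e' ∈ B, lab e = lab e') ∧ ∀ e, e ∉ B → g (ends e).1 = g (ends e).2)} ∧
    ∀ v₀ : V, f v₀ = 0 →
      f ∈ AddSubmonoid.closure {g : V → ℤ | IsCartier ends n g ∧ (∃ B : Finset E, (∀ e ∈ B, ∀ e' ∈ B, lab e = lab e') ∧ ∀ e, e ∉ B → g (ends e).1 = g (ends e).2) ∧ g v₀ = 0} := by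
  classical
  have main : ∀ r : V, ∃ (s : Finset L) (g : L → V → ℤ), (∀ a, g a r = 0) ∧
      (∀ a, IsCartier ends n (g a) ∧ ∀ e, e ∉ univ.filter (fun e => lab e = a) →
        g a (ends e).1 = g a (ends e).2) ∧
      f = (fun _ => f r) + ∑ a ∈ s, g a := by
    intro r
    obtain ⟨ft, hft, -⟩ := exists_good (ends := ends) (r := r) univ (fun v => by
      refine Relation.ReflTransGen.mono ?_ v r (hconn.2 v r)
      rintro a b ⟨e, he⟩
      exact ⟨e, mem_univ e, he⟩)
    have hgex : ∀ a : L, ∃ g : V → ℤ, g r = 0 ∧ ∀ v : {v : V // v ≠ r},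
        g v.1 - g (sc ends ft v.1) = if lab (ft v).1 = a then f v.1 - f (sc ends ft v.1) else 0 := by
      intro a
      let G : ℕ → V → ℤ := fun k => Nat.rec (fun _ => 0) (fun _ F v =>
        if h : v = r then 0 else F (sc ends ft v) +
          if lab (ft ⟨v, h⟩).1 = a then f v - f (sc ends ft v) else 0) k
      refine ⟨fun v => G (hft.dep v) v, ?_, fun v => ?_⟩
      · show G (hft.dep r) r = 0
        cases hft.dep r with
        | zero => rfl
        | succ k => simp [G]
      · show G (hft.dep v.1) v.1 - G (hft.dep (sc ends ft v.1)) (sc ends ft v.1) = _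
        rw [hft.dep_sc v]
        show (if h : v.1 = r then 0 else G _ (sc ends ft v.1) +
          if lab (ft ⟨v.1, h⟩).1 = a then f v.1 - f (sc ends ft v.1) else 0) - _ = _
        rw [dif_neg v.2]
        simp
    choose g hgr hg using hgex
    have htree : ∀ a, ∀ e ∈ img ft, g a (ends e).1 - g a (ends e).2 =
        if lab e = a then f (ends e).1 - f (ends e).2 else 0 := by
      intro a e he
      obtain ⟨v, -, rfl⟩ := Finset.mem_image.1 he
      have h1 := hg a v
      rcases hft.ends_eq v with h | h <;> rw [h]
      · exact h1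
      · simp only
        split_ifs at h1 ⊢ with hl <;> linarith
    have hjump : ∀ a e, g a (ends e).1 - g a (ends e).2 =
        if lab e = a then f (ends e).1 - f (ends e).2 else 0 := by
      intro a e
      by_cases he : e ∈ img ft
      · exact htree a e he
      · obtain ⟨C, hC1, hC2, hC3⟩ := hft.even_of_extra e he
        obtain ⟨C', hC'1, hC'⟩ := exists_circuit_subset ends C ⟨e, hC1⟩ hC3
        have heC : e ∈ C' := by
          by_contra h
          obtain ⟨x, hx⟩ := hft.forest C' (fun c hc => by
            rcases Finset.mem_insert.1 (hC2 (hC'1 hc)) with h' | h'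
            · exact absurd (h' ▸ hc) h
            · exact h') hC'.1
          exact hx (hC'.2.1 x)
        have hlab : ∀ c ∈ C', lab c = lab e := fun c hc => hcirc C' hC' c hc e heC
        have himg : ∀ c ∈ C', c ≠ e → c ∈ img ft := fun c hc hne => by
          rcases Finset.mem_insert.1 (hC2 (hC'1 hc)) with h' | h'
          · exact absurd h' hne
          · exact h'
        by_cases hla : lab e = a
        · have := eq_across (ends := ends) heC hC'.2.1 (fun v => f v - g a v) (fun c hc hne => by
            have h := htree a c (himg c hc hne)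
            rw [if_pos ((hlab c hc).trans hla)] at h
            linarith)
          rw [if_pos hla]; linarith
        · have := eq_across (ends := ends) heC hC'.2.1 (g a) (fun c hc hne => by
            have h := htree a c (himg c hc hne)
            rw [if_neg (fun h' => hla ((hlab c hc).symm.trans h'))] at h
            linarith)
          rw [if_neg hla]; linarith
    refine ⟨univ.image lab, g, hgr, fun a => ⟨fun e => ?_, fun e he => ?_⟩, ?_⟩
    · rw [hjump a e]
      split_ifs
      · exact hf e
      · exact dvd_zero _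
    · simp only [mem_filter, mem_univ, true_and] at he
      have := hjump a e
      rw [if_neg he] at this
      linarith
    · have hzero : ∀ e, (f - ∑ a ∈ univ.image lab, g a) (ends e).1 =
          (f - ∑ a ∈ univ.image lab, g a) (ends e).2 := by
        intro e
        simp only [Pi.sub_apply, Finset.sum_apply]
        have : ∑ a ∈ univ.image lab, g a (ends e).1 - ∑ a ∈ univ.image lab, g a (ends e).2 =
            f (ends e).1 - f (ends e).2 := by
          rw [← Finset.sum_sub_distrib]
          simp only [hjump]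
          rw [Finset.sum_ite_eq]
          simp
        linarith
      funext v
      have hc : (f - ∑ a ∈ univ.image lab, g a) v = (f - ∑ a ∈ univ.image lab, g a) r := by
        induction hconn.2 r v with
        | refl => rfl
        | tail _ hab ih =>
          obtain ⟨e, he | he⟩ := hab <;>
          · have h2 := hzero e
            rw [he] at h2
            simp only at h2
            first | exact h2.symm.trans ih | exact h2.trans ih
      simp only [Pi.sub_apply, Pi.add_apply, Finset.sum_apply, hgr, Finset.sum_const_zero, sub_zero] at hc ⊢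
      linarith
  refine ⟨?_, fun v₀ hv₀ => ?_⟩
  · obtain ⟨r⟩ := hconn.1
    obtain ⟨s, g, -, hg, hsum⟩ := main r
    rw [hsum]
    refine add_mem (AddSubmonoid.subset_closure ⟨fun e => by simp, ∅, by simp, by simp⟩) ?_
    refine AddSubmonoid.sum_mem _ fun a _ => AddSubmonoid.subset_closure ?_
    exact ⟨(hg a).1, univ.filter (fun e => lab e = a),
      fun e he e' he' => by simp only [mem_filter] at he he'; rw [he.2, he'.2], (hg a).2⟩
  · obtain ⟨s, g, hg0, hg, hsum⟩ := main v₀
    rw [hsum]
    have : (fun _ : V => f v₀) = 0 := funext fun _ => hv₀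
    rw [this, zero_add]
    refine AddSubmonoid.sum_mem _ fun a _ => AddSubmonoid.subset_closure ?_
    exact ⟨(hg a).1, ⟨univ.filter (fun e => lab e = a),
      fun e he e' he' => by simp only [mem_filter] at he he'; rw [he.2, he'.2], (hg a).2⟩, hg0 a⟩

end LeadLabGraph
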