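import Groth.Prelude.Def_W4c2conddiscmodels
import Mathlib

/-! Contractions of multiplicity graphs, chains of connecting edges. -/

universe u

open Finset

namespace LeadLabGraph

variable {V E : Type u} [Fintype V] [Fintype E] [DecidableEq V] [DecidableEq E]
variable (ends : E → V × V)

open LabGraph DualGr

lemma edgeMult_symm (v w : V) : edgeMult ends v w = edgeMult ends w v := by
  unfold edgeMult
  congr 1
  ext e
  simp [or_comm]

lemma mf_off (β : V → ℤ) {v w : V} (h : v ≠ w) :
    mfMatrix ends β v w = (edgeMult ends v w : ℤ) := by simp [mfMatrix, h]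

lemma mf_symm (β : V → ℤ) (v w : V) : mfMatrix ends β v w = mfMatrix ends β w v := by
  by_cases h : v = w
  · subst h; rfl
  · rw [mf_off ends β h, mf_off ends β (Ne.symm h), edgeMult_symm]

variable {ends}

lemma mf_row {β : V → ℤ} (hβ : IsMultFn ends β) (v : V) :
    ∑ w, mfMatrix ends β v w * β w = 0 := by
  rw [← Finset.add_sum_erase _ _ (mem_univ v)]
  have h2 : ∑ w ∈ univ.erase v, mfMatrix ends β v w * β w =
      ∑ w ∈ univ.erase v, β w * (edgeMult ends v w : ℤ) := by
    apply Finset.sum_congr rfl
    intro w hw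
    rw [mf_off ends β (Ne.symm (Finset.ne_of_mem_erase hw)), mul_comm]
  rw [h2]
  have hd := (hβ v).2
  have : mfMatrix ends β v v * β v = -(∑ u ∈ univ.erase v, β u * (edgeMult ends v u : ℤ)) := by
    simp only [mfMatrix, if_true]
    exact Int.ediv_mul_cancel (dvd_neg.2 hd)
  rw [this]; ring

lemma mulVec_beta {β : V → ℤ} (hβ : IsMultFn ends β) :
    (mfMatrix ends β).mulVec β = 0 := by
  funext v
  simpa [Matrix.mulVec, dotProduct] using mf_row hβ v

lemma betaHom_apply (β x : V → ℤ) : betaHom β x = ∑ v, x v * β v := by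
  simp [betaHom, Fintype.linearCombination_apply]

/-! ### Fibres of a contraction -/

variable (ends) in
/-- The fibre of a class. -/
noncomputable def fib (D : Finset E) (a : CtrVert ends D) : Finset V :=
  univ.filter fun v => ctrMk ends D v = a

variable {D : Finset E}

lemma mem_fib {a : CtrVert ends D} {v : V} : v ∈ fib ends D a ↔ ctrMk ends D v = a := by
  simp [fib]

lemma sum_fib {M : Type*} [AddCommMonoid M] (g : V → M) :
    ∑ a : CtrVert ends D, ∑ v ∈ fib ends D a, g v = ∑ v, g v :=
  Finset.sum_fiberwise univ (fun v => ctrMk ends D v) g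

lemma edgeMult_ctr {a b : CtrVert ends D} (hab : a ≠ b) :
    edgeMult (ctrEnds ends D) a b =
      ∑ v ∈ fib ends D a, ∑ w ∈ fib ends D b, edgeMult ends v w := by
  classical
  have key : ∀ e : E, (∑ v ∈ fib ends D a, ∑ w ∈ fib ends D b,
      if ends e = (v, w) ∨ ends e = (w, v) then 1 else 0) =
      (if (ctrMk ends D (ends e).1 = a ∧ ctrMk ends D (ends e).2 = b) ∨
          (ctrMk ends D (ends e).1 = b ∧ ctrMk ends D (ends e).2 = a) then 1 else 0 : ℕ) := by
    intro e
    obtain ⟨x, y, hxy⟩ : ∃ x y, ends e = (x, y) := ⟨_, _, rfl⟩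
    rw [hxy]
    simp only [Prod.mk.injEq]
    by_cases h1 : ctrMk ends D x = a ∧ ctrMk ends D y = b
    · rw [if_pos (Or.inl h1), Finset.sum_eq_single x, Finset.sum_eq_single y]
      · simp
      · intro w hw hne
        rw [mem_fib] at hw
        rw [if_neg]
        rintro (⟨-, h⟩ | ⟨h, h'⟩)
        · exact hne h.symm
        · exact hab (by rw [← h1.1, h, hw])
      · intro h; exact absurd (mem_fib.2 h1.2) h
      · intro v hv hne
        rw [mem_fib] at hv
        apply Finset.sum_eq_zero
        intro w hw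
        rw [mem_fib] at hw
        rw [if_neg]
        rintro (⟨h, -⟩ | ⟨h, h'⟩)
        · exact hne h.symm
        · exact hab (by rw [← hv, ← h', h1.2])
      · intro h; exact absurd (mem_fib.2 h1.1) h
    · by_cases h2 : ctrMk ends D x = b ∧ ctrMk ends D y = a
      · rw [if_pos (Or.inr h2), Finset.sum_eq_single y, Finset.sum_eq_single x]
        · simp
        · intro w hw hne
          rw [mem_fib] at hw
          rw [if_neg]
          rintro (⟨h, h'⟩ | ⟨h, h'⟩)
          · exact hab (by rw [← h2.2, h', hw])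
          · exact hne h.symm
        · intro h; exact absurd (mem_fib.2 h2.1) h
        · intro v hv hne
          rw [mem_fib] at hv
          apply Finset.sum_eq_zero
          intro w hw
          rw [mem_fib] at hw
          rw [if_neg]
          rintro (⟨h, -⟩ | ⟨h, h'⟩)
          · exact hab (by rw [← hv, ← h, h2.1])
          · exact hne h'.symm
        · intro h; exact absurd (mem_fib.2 h2.2) h
      · rw [if_neg (not_or.2 ⟨h1, h2⟩)]
        apply Finset.sum_eq_zero
        intro v hv
        apply Finset.sum_eq_zero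
        intro w hw
        rw [mem_fib] at hv hw
        rw [if_neg]
        rintro (⟨h, h'⟩ | ⟨h, h'⟩)
        · exact h1 ⟨h ▸ hv, h' ▸ hw⟩
        · exact h2 ⟨h ▸ hw, h' ▸ hv⟩
  have hR : ∑ v ∈ fib ends D a, ∑ w ∈ fib ends D b, edgeMult ends v w =
      ∑ e : E, (if (ctrMk ends D (ends e).1 = a ∧ ctrMk ends D (ends e).2 = b) ∨
          (ctrMk ends D (ends e).1 = b ∧ ctrMk ends D (ends e).2 = a) then 1 else 0 : ℕ) := by
    simp only [← key]
    rw [Finset.sum_comm (s := (univ : Finset E))]
    apply Finset.sum_congr rfl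
    intro v _
    rw [Finset.sum_comm (s := (univ : Finset E))]
    apply Finset.sum_congr rfl
    intro w _
    rw [edgeMult, Finset.card_filter]
  rw [hR, edgeMult, ← Finset.card_filter]
  refine Finset.card_bij (fun e _ => e.1) ?_ ?_ ?_
  · intro e he
    simpa [ctrEnds, Prod.mk.injEq] using he
  · intro e₁ _ e₂ _ h
    exact Subtype.ext h
  · intro e he
    simp only [mem_filter, mem_univ, true_and] at he
    have hD : e ∉ D := by
      intro hD
      have := ctrMk_fst_eq_ctrMk_snd ends D hD
      rcases he with ⟨h1, h2⟩ | ⟨h1, h2⟩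
      · exact hab (by rw [← h1, ← h2, this])
      · exact hab (by rw [← h1, ← h2, this])
    exact ⟨⟨e, hD⟩, by simpa [ctrEnds, Prod.mk.injEq] using he, rfl⟩

variable {β : V → ℤ}

lemma ctrFn_mk (hc : ∀ v w, ctrMk ends D v = ctrMk ends D w → β v = β w) (v : V) :
    ctrFn ends D β (ctrMk ends D v) = β v := by
  apply hc
  exact Quotient.out_eq _

lemma ctr_sum (hβ : IsMultFn ends β) (hc : ∀ v w, ctrMk ends D v = ctrMk ends D w → β v = β w)
    (a : CtrVert ends D) :
    ∑ b ∈ univ.erase a, ctrFn ends D β b * (edgeMult (ctrEnds ends D) a b : ℤ) =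
      -(ctrFn ends D β a * ∑ v ∈ fib ends D a, ∑ w ∈ fib ends D a, mfMatrix ends β v w) := by
  have h1 : ∀ b ∈ univ.erase a, ctrFn ends D β b * (edgeMult (ctrEnds ends D) a b : ℤ) =
      ∑ v ∈ fib ends D a, ∑ w ∈ fib ends D b, mfMatrix ends β v w * β w := by
    intro b hb
    have hab : a ≠ b := Ne.symm (Finset.ne_of_mem_erase hb)
    rw [edgeMult_ctr hab]
    push_cast
    rw [Finset.mul_sum]
    apply Finset.sum_congr rfl
    intro v hv
    rw [Finset.mul_sum]
    apply Finset.sum_congr rfl
    intro w hw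
    rw [mem_fib] at hv hw
    have hvw : v ≠ w := fun h => hab (by rw [← hv, h, hw])
    rw [mf_off ends β hvw, ← hw, ctrFn_mk hc, mul_comm]
  have h2 : ∑ v ∈ fib ends D a, ∑ b : CtrVert ends D, ∑ w ∈ fib ends D b,
      mfMatrix ends β v w * β w = 0 := by
    apply Finset.sum_eq_zero
    intro v _
    rw [sum_fib (fun w => mfMatrix ends β v w * β w), mf_row hβ]
  rw [Finset.sum_comm, ← Finset.add_sum_erase _ _ (mem_univ a)] at h2
  rw [Finset.sum_congr rfl h1]
  have h3 : ∑ v ∈ fib ends D a, ∑ w ∈ fib ends D a, mfMatrix ends β v w * β w =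
      ctrFn ends D β a * ∑ v ∈ fib ends D a, ∑ w ∈ fib ends D a, mfMatrix ends β v w := by
    rw [Finset.mul_sum]
    apply Finset.sum_congr rfl
    intro v _
    rw [Finset.mul_sum]
    apply Finset.sum_congr rfl
    intro w hw
    rw [mem_fib] at hw
    rw [← hw, ctrFn_mk hc, mul_comm]
  linarith

lemma isMultFn_ctr (hβ : IsMultFn ends β) (hc : ∀ v w, ctrMk ends D v = ctrMk ends D w → β v = β w) :
    IsMultFn (ctrEnds ends D) (ctrFn ends D β) := by
  intro a
  refine ⟨(hβ _).1, ?_⟩
  rw [ctr_sum hβ hc a, dvd_neg]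
  exact dvd_mul_right _ _

lemma mf_ctr (hβ : IsMultFn ends β) (hc : ∀ v w, ctrMk ends D v = ctrMk ends D w → β v = β w)
    (a b : CtrVert ends D) :
    mfMatrix (ctrEnds ends D) (ctrFn ends D β) a b =
      ∑ v ∈ fib ends D a, ∑ w ∈ fib ends D b, mfMatrix ends β v w := by
  by_cases hab : a = b
  · subst hab
    simp only [mfMatrix, if_true]
    rw [ctr_sum hβ hc a, neg_neg]
    exact Int.mul_ediv_cancel_left _ ((hβ _).1.ne')
  · rw [mf_off _ _ hab, edgeMult_ctr hab]
    push_cast
    apply Finset.sum_congr rfl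
    intro v hv
    apply Finset.sum_congr rfl
    intro w hw
    rw [mem_fib] at hv hw
    have hvw : v ≠ w := fun h => hab (by rw [← hv, h, hw])
    rw [mf_off ends β hvw]

lemma mf_ctr_mulVec (hβ : IsMultFn ends β) (hc : ∀ v w, ctrMk ends D v = ctrMk ends D w → β v = β w)
    (X : CtrVert ends D → ℤ) (a : CtrVert ends D) :
    (mfMatrix (ctrEnds ends D) (ctrFn ends D β)).mulVec X a =
      ∑ v ∈ fib ends D a, (mfMatrix ends β).mulVec (fun w => X (ctrMk ends D w)) v := by
  simp only [Matrix.mulVec, dotProduct]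
  simp only [mf_ctr hβ hc, Finset.sum_mul]
  rw [Finset.sum_comm]
  apply Finset.sum_congr rfl
  intro v _
  rw [← sum_fib (ends := ends) (D := D) (fun w => mfMatrix ends β v w * X (ctrMk ends D w))]
  apply Finset.sum_congr rfl
  intro b _
  apply Finset.sum_congr rfl
  intro w hw
  rw [mem_fib] at hw
  rw [hw]

/-! ### Chains -/

variable {k : ℕ} {f : Fin (k + 1) → V} {e : Fin k → E}

lemma chain_class (hC : IsChain ends f e) (i : Fin (k + 1)) :
    ctrMk ends (univ.image e) (f i) = ctrMk ends (univ.image e) (f 0) := by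
  induction i using Fin.induction with
  | zero => rfl
  | succ i ih =>
    rw [← ih]
    have h := ctrMk_fst_eq_ctrMk_snd ends (univ.image e) (Finset.mem_image_of_mem e (mem_univ i))
    rcases hC.2.2 i with he | he <;> rw [he] at h
    · exact h.symm
    · exact h

lemma chain_class_iff (hC : IsChain ends f e) {v w : V}
    (h : ctrMk ends (univ.image e) v = ctrMk ends (univ.image e) w) :
    v = w ∨ ((∃ i, f i = v) ∧ ∃ j, f j = w) := by
  have h' : Relation.EqvGen (CtrRel ends (univ.image e)) v w := Quotient.exact h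
  clear h
  induction h' with
  | rel x y hxy =>
    obtain ⟨e', he', hxy⟩ := hxy
    obtain ⟨i, -, rfl⟩ := Finset.mem_image.1 he'
    rcases hC.2.2 i with he | he <;> rw [he] at hxy <;>
      simp only [Prod.mk.injEq] at hxy <;> exact Or.inr ⟨⟨_, hxy.1⟩, ⟨_, hxy.2⟩⟩
  | refl x => exact Or.inl rfl
  | symm x y _ ih =>
    rcases ih with h | ⟨a, b⟩
    · exact Or.inl h.symm
    · exact Or.inr ⟨b, a⟩
  | trans x y z _ _ i1 i2 =>
    rcases i1 with h | ⟨a, b⟩
    · exact h ▸ i2
    · rcases i2 with h | ⟨c, d⟩
      · exact Or.inr ⟨a, h ▸ b⟩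
      · exact Or.inr ⟨a, d⟩

lemma chain_const (hC : IsChain ends f e) (hconst : ∀ i j, β (f i) = β (f j)) (v w : V)
    (h : ctrMk ends (univ.image e) v = ctrMk ends (univ.image e) w) : β v = β w := by
  rcases chain_class_iff hC h with h | ⟨⟨i, rfl⟩, j, rfl⟩
  · rw [h]
  · exact hconst i j

/-- The hypotheses of a connecting chain of `-2` vertices. -/
structure Chn (ends : E → V × V) (β : V → ℤ) (m : ℕ) (f : Fin (m + 1) → V) (e : Fin m → E) : Prop where
  hβ : IsMultFn ends β
  hC : IsChain ends f e
  hconn : ∀ i, IsConnecting ends (e i)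
  hβm : ∀ i, β (f i) = m
  hα : ∀ i, mfMatrix ends β (f i) (f i) = -2

namespace Chn

variable {m : ℕ} {f : Fin (m + 1) → V} {e : Fin m → E} (H : Chn ends β m f e)
include H

lemma m_pos : 0 < m := by
  have h := (H.hβ (f 0)).1
  rw [H.hβm] at h
  exact_mod_cast h

lemma const (v w : V) (h : ctrMk ends (univ.image e) v = ctrMk ends (univ.image e) w) :
    β v = β w :=
  chain_const H.hC (fun i j => by rw [H.hβm, H.hβm]) v w h

lemma exists_side (k : Fin m) : ∃ S : Finset V, (∀ i : Fin (m + 1), f i ∈ S ↔ (k : ℕ) < i) ∧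
    ∀ e' : E, e' ≠ e k → ((ends e').1 ∈ S ↔ (ends e').2 ∈ S) := by
  obtain ⟨S₀, hS₀⟩ := H.hconn k
  have hcr := (hS₀ (e k)).2 rfl
  -- normalise so that the upper endpoint is inside
  obtain ⟨S, hk1, hk2, hoth⟩ : ∃ S : Finset V, f k.succ ∈ S ∧ f k.castSucc ∉ S ∧
      ∀ e' : E, e' ≠ e k → ((ends e').1 ∈ S ↔ (ends e').2 ∈ S) := by
    have hoth : ∀ e' : E, e' ≠ e k → ((ends e').1 ∈ S₀ ↔ (ends e').2 ∈ S₀) := by
      intro e' he'
      have := (hS₀ e').not.2 he'
      tauto
    have hx : f k.succ ∈ S₀ ↔ f k.castSucc ∉ S₀ := by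
      rcases H.hC.2.2 k with he | he <;> rw [he] at hcr <;> simp only at hcr <;> tauto
    by_cases h : f k.succ ∈ S₀
    · exact ⟨S₀, h, hx.1 h, hoth⟩
    · refine ⟨S₀ᶜ, by simpa using h, by simp; tauto, fun e' he' => ?_⟩
      simp only [Finset.mem_compl]
      exact (hoth e' he').not
  refine ⟨S, ?_, hoth⟩
  have hstep : ∀ j : Fin m, j ≠ k → (f j.castSucc ∈ S ↔ f j.succ ∈ S) := by
    intro j hj
    have h := hoth (e j) (fun h => hj (H.hC.2.1 h))
    rcases H.hC.2.2 j with he | he <;> rw [he] at h <;> simp only at h <;> tauto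
  intro i
  induction i using Fin.induction with
  | zero =>
    simp only [Fin.val_zero, Nat.not_lt_zero, iff_false]
    -- go up from 0 to k.castSucc
    have : ∀ n : ℕ, ∀ hn : n ≤ k, (f ⟨n, by omega⟩ ∈ S ↔ f 0 ∈ S) := by
      intro n
      induction n with
      | zero => intro _; rfl
      | succ n ih =>
        intro hn
        rw [← ih (by omega)]
        exact (hstep ⟨n, by omega⟩ (by simp [Fin.ext_iff]; omega)).symm
    rw [← this k le_rfl]
    exact hk2
  | succ i ih =>
    by_cases hik : i = k
    · subst hik; simp [hk1]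
    · rw [← hstep i hik, ih]
      have : (i : ℕ) ≠ k := fun h => hik (Fin.ext h)
      simp only [Fin.coe_castSucc, Fin.val_succ]
      omega

lemma chain_edge {i j : Fin (m + 1)} (hij : (i : ℕ) < j) {e' : E}
    (he' : ends e' = (f i, f j) ∨ ends e' = (f j, f i)) :
    (j : ℕ) = i + 1 ∧ e' = e ⟨i, by omega⟩ := by
  obtain ⟨S, hS, hoth⟩ := exists_side H ⟨i, by omega⟩
  have h1 : f i ∉ S := by rw [hS]; simp
  have h2 : f j ∈ S := by rw [hS]; simpa using hij
  have he : e' = e ⟨i, by omega⟩ := by
    by_contra h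
    have := hoth e' h
    rcases he' with h' | h' <;> rw [h'] at this <;> simp only at this <;> tauto
  refine ⟨?_, he⟩
  subst he
  have hinj := H.hC.1
  rcases H.hC.2.2 ⟨i, by omega⟩ with h | h <;> rcases he' with h' | h' <;> rw [h] at h' <;>
    simp only [Prod.mk.injEq, hinj.eq_iff, Fin.ext_iff, Fin.coe_castSucc, Fin.val_succ] at h' <;>
    omega

lemma edgeMult_chain {i j : Fin (m + 1)} (hij : (i : ℕ) < j) :
    edgeMult ends (f i) (f j) = if (j : ℕ) = i + 1 then 1 else 0 := by
  split_ifs with h
  · rw [edgeMult, Finset.card_eq_one]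
    refine ⟨e ⟨i, by omega⟩, ?_⟩
    ext e'
    simp only [mem_filter, mem_univ, true_and, mem_singleton]
    constructor
    · exact fun he' => (chain_edge H hij he').2
    · rintro rfl
      have hj : j = (⟨i, by omega⟩ : Fin m).succ := Fin.ext (by simpa using h)
      have hi : i = (⟨i, by omega⟩ : Fin m).castSucc := Fin.ext rfl
      have := H.hC.2.2 ⟨i, by omega⟩
      rw [← hj, ← hi] at this
      exact this
  · rw [edgeMult, Finset.card_eq_zero, Finset.filter_eq_empty_iff]
    exact fun e' _ he' => h (chain_edge H hij he').1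

lemma mf_chain (i j : Fin (m + 1)) :
    mfMatrix ends β (f i) (f j) = if i = j then -2 else
      if (j : ℕ) = i + 1 ∨ (i : ℕ) = j + 1 then 1 else 0 := by
  by_cases hij : i = j
  · subst hij; simp [H.hα]
  · rw [if_neg hij, mf_off ends β (fun h => hij (H.hC.1 h))]
    rcases lt_or_gt_of_ne (fun h => hij (Fin.ext h) : (i : ℕ) ≠ j) with h | h
    · rw [edgeMult_chain H h]
      split_ifs <;> simp <;> omega
    · rw [edgeMult_symm, edgeMult_chain H h]
      split_ifs <;> simp <;> omega

omit H in
lemma mf_nonneg {v w : V} (h : v ≠ w) : 0 ≤ mfMatrix ends β v w := by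
  rw [mf_off ends β h]; positivity

lemma mf_inner {i : Fin (m + 1)} (h0 : 0 < (i : ℕ)) (h1 : (i : ℕ) < m) (w : V)
    (hw : ∀ j, f j ≠ w) : mfMatrix ends β (f i) w = 0 := by
  classical
  have hrow := mf_row H.hβ (f i)
  set p : Fin (m + 1) := ⟨i - 1, by omega⟩ with hp
  set q : Fin (m + 1) := ⟨i + 1, by omega⟩ with hq
  have hip : i ≠ p := by simp [hp, Fin.ext_iff]; omega
  have hiq : i ≠ q := by simp [hq, Fin.ext_iff]
  have hpq : p ≠ q := by
    simp only [hp, hq, ne_eq, Fin.ext_iff]; omega
  have hs : ({f i, f p, f q, w} : Finset V) ⊆ univ := Finset.subset_univ _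
  have hle : ∑ v ∈ ({f i, f p, f q, w} : Finset V), mfMatrix ends β (f i) v * β v ≤ 0 := by
    rw [← hrow]
    apply Finset.sum_le_sum_of_subset_of_nonneg hs
    intro v _ hv
    apply mul_nonneg (mf_nonneg ?_) (H.hβ v).1.le
    intro h; subst h; simp at hv
  have hinj := H.hC.1
  rw [Finset.sum_insert, Finset.sum_insert, Finset.sum_insert, Finset.sum_singleton] at hle
  · rw [mf_chain H i i, mf_chain H i p, mf_chain H i q, H.hβm, H.hβm, H.hβm, if_pos rfl,
      if_neg hip, if_neg hiq, if_pos (Or.inr (by simp [hp]; omega)),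
      if_pos (Or.inl (by simp [hq]))] at hle
    have h2 : 0 ≤ mfMatrix ends β (f i) w := mf_nonneg (hw i)
    have h3 := (H.hβ w).1
    nlinarith
  · simpa using hw q
  · simp [hinj.eq_iff, hpq, hw p]
  · simp [hinj.eq_iff, hip, hiq, hw i]

omit H in
lemma sum_chain_split {M : Type*} [AddCommMonoid M] (hf : Function.Injective f) (F : V → M) :
    ∑ v, F v = (∑ j, F (f j)) + ∑ v ∈ univ.filter (fun v => ∀ j, f j ≠ v), F v := by
  classical
  rw [← Finset.sum_filter_not_add_sum_filter univ (fun v => ∀ j, f j ≠ v)]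
  congr 1
  rw [← Finset.sum_image (f := F) (g := f) (fun a _ b _ h => hf h)]
  apply Finset.sum_congr _ (fun _ _ => rfl)
  ext v; simp

lemma mulVec_inner {i : Fin (m + 1)} (h0 : 0 < (i : ℕ)) (h1 : (i : ℕ) < m) (y : V → ℤ) :
    (mfMatrix ends β).mulVec y (f i) =
      y (f ⟨i - 1, by omega⟩) - 2 * y (f i) + y (f ⟨i + 1, by omega⟩) := by
  simp only [Matrix.mulVec, dotProduct]
  rw [sum_chain_split (f := f) H.hC.1,
    Finset.sum_eq_zero (s := univ.filter _) (fun w hw => by
      rw [mf_inner H h0 h1 w (Finset.mem_filter.1 hw).2, zero_mul]), add_zero]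
  set p : Fin (m + 1) := ⟨i - 1, by omega⟩ with hp
  set q : Fin (m + 1) := ⟨i + 1, by omega⟩ with hq
  have hip : i ≠ p := by simp [hp, Fin.ext_iff]; omega
  have hiq : i ≠ q := by simp [hq, Fin.ext_iff]
  have hpq : p ≠ q := by
    simp only [hp, hq, ne_eq, Fin.ext_iff]; omega
  rw [← Finset.sum_subset (Finset.subset_univ ({i, p, q} : Finset (Fin (m + 1)))) ?_]
  · rw [Finset.sum_insert, Finset.sum_insert, Finset.sum_singleton]
    · rw [mf_chain H i i, mf_chain H i p, mf_chain H i q, if_pos rfl,
        if_neg hip, if_neg hiq, if_pos (Or.inr (by simp [hp]; omega)),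
        if_pos (Or.inl (by simp [hq]))]
      ring
    · simp [hpq]
    · simp [hip, hiq]
  · intro j _ hj
    simp only [mem_insert, mem_singleton, not_or] at hj
    rw [mf_chain H i j, if_neg (Ne.symm hj.1), if_neg, zero_mul]
    have := hj.2.1; have := hj.2.2
    simp [hp, hq, Fin.ext_iff] at *
    omega

/-- A vertex vector with `α g = δ_{v₀} - δ_{v_m}` and `g (v_i) = i`. -/
lemma exists_g : ∃ g : V → ℤ, (∀ i, g (f i) = (i : ℕ)) ∧
    (mfMatrix ends β).mulVec g = Pi.single (f 0) 1 - Pi.single (f (Fin.last m)) 1 := by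
  classical
  have hm := H.m_pos
  have hinj := H.hC.1
  obtain ⟨S, hS, hoth⟩ := exists_side H ⟨m - 1, by omega⟩
  set g : V → ℤ := fun v => if h : ∃ j, f j = v then ((h.choose : ℕ) : ℤ) else
    if v ∈ S then β v else 0 with hg
  have gch : ∀ i, g (f i) = (i : ℕ) := by
    intro i
    have h : ∃ j, f j = f i := ⟨i, rfl⟩
    simp only [hg]
    rw [dif_pos h]
    have : h.choose = i := hinj h.choose_spec
    rw [this]
  have goff : ∀ v, (∀ j, f j ≠ v) → g v = if v ∈ S then β v else 0 := by
    intro v hv
    simp only [hg]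
    rw [dif_neg (fun ⟨j, hj⟩ => hv j hj)]
  refine ⟨g, gch, ?_⟩
  have hgm : ∀ i : Fin (m + 1), (i : ℕ) = 0 ∨ (i : ℕ) = m → g (f i) = if f i ∈ S then β (f i) else 0 := by
    intro i hi
    rw [gch]
    rcases hi with hi | hi
    · rw [if_neg (by rw [hS]; simp; omega), hi]; simp
    · rw [if_pos (by rw [hS]; simp; omega), hi, H.hβm]
  -- neighbours outside the chain lie on the same side
  have hnb : ∀ v w : V, (∀ j, f j ≠ w) → v ≠ w → mfMatrix ends β v w ≠ 0 → (v ∈ S ↔ w ∈ S) := by
    intro v w hw hvw hne
    rw [mf_off ends β hvw] at hne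
    obtain ⟨e', he'⟩ := Finset.card_pos.1 (Nat.pos_of_ne_zero (by exact_mod_cast hne) :
      0 < (univ.filter fun e : E => ends e = (v, w) ∨ ends e = (w, v)).card)
    simp only [mem_filter, mem_univ, true_and] at he'
    have hne' : e' ≠ e ⟨m - 1, by omega⟩ := by
      rintro rfl
      rcases H.hC.2.2 ⟨m - 1, by omega⟩ with h | h <;> rcases he' with h' | h' <;> rw [h] at h' <;>
        simp only [Prod.mk.injEq] at h' <;>
        first | exact hw _ h'.1 | exact hw _ h'.2
    have := hoth e' hne'
    rcases he' with h | h <;> rw [h] at this <;> simp only at this <;> tauto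
  funext v
  by_cases hv : ∃ i, f i = v
  · obtain ⟨i, rfl⟩ := hv
    simp only [Pi.sub_apply, Pi.single_apply, hinj.eq_iff]
    rcases Nat.eq_zero_or_pos (i : ℕ) with hi | hi
    · -- i = 0
      have hi' : i = 0 := Fin.ext hi
      subst hi'
      rw [if_pos rfl, if_neg (by simp [Fin.ext_iff]; omega)]
      simp only [Matrix.mulVec, dotProduct]
      rw [sum_chain_split hinj, Finset.sum_eq_single (⟨1, by omega⟩ : Fin (m + 1))]
      · rw [Finset.sum_eq_zero (s := univ.filter _)]
        · rw [mf_chain H, gch, if_neg (by simp [Fin.ext_iff]), if_pos (Or.inl (by simp))]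
          simp
        · intro w hw
          simp only [mem_filter, mem_univ, true_and] at hw
          rw [goff w hw]
          by_cases h0 : mfMatrix ends β (f 0) w = 0
          · simp [h0]
          · have := hnb (f 0) w hw (hw 0) h0
            rw [if_neg, mul_zero]
            rw [← this, hS]; simp
      · intro j _ hj
        rw [mf_chain H, gch]
        split_ifs with h1 h2
        · subst h1; simp
        · exfalso; apply hj; apply Fin.ext; simp only [Fin.val_zero] at h2 ⊢; omega
        · simp
      · simp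
    · rcases Nat.lt_or_ge (i : ℕ) m with hlt | hge
      · have hn0 : i ≠ 0 := fun h => by subst h; simp at hi
        have hnl : i ≠ Fin.last m := fun h => by subst h; simp at hlt
        rw [mulVec_inner H hi hlt, gch, gch, gch, if_neg hn0, if_neg hnl]
        simp only
        push_cast [Nat.cast_sub (show 1 ≤ (i : ℕ) by omega)]
        ring
      · have hi' : i = Fin.last m := Fin.ext (by simp; omega)
        subst hi'
        rw [if_neg (by simp [Fin.ext_iff]; omega), if_pos rfl]
        have hsub : (mfMatrix ends β).mulVec g (f (Fin.last m)) =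
            ∑ u, mfMatrix ends β (f (Fin.last m)) u * (g u - β u) := by
          simp only [mul_sub, Finset.sum_sub_distrib, mf_row H.hβ, sub_zero]
          rfl
        rw [hsub, sum_chain_split hinj,
          Finset.sum_eq_single (⟨m - 1, by omega⟩ : Fin (m + 1))]
        · rw [Finset.sum_eq_zero (s := univ.filter _)]
          · rw [mf_chain H, gch, H.hβm, if_neg (by simp [Fin.ext_iff]; omega),
              if_pos (Or.inr (by simp; omega))]
            simp only
            push_cast [Nat.cast_sub (show 1 ≤ m by omega)]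
            ring
          · intro w hw
            simp only [mem_filter, mem_univ, true_and] at hw
            rw [goff w hw]
            by_cases h0 : mfMatrix ends β (f (Fin.last m)) w = 0
            · simp [h0]
            · have := hnb _ w hw (hw _) h0
              rw [if_pos, sub_self, mul_zero]
              rw [← this, hS]; simp; omega
        · intro j _ hj
          rw [mf_chain H, gch, H.hβm]
          split_ifs with h1 h2
          · subst h1; simp
          · exfalso
            apply hj
            apply Fin.ext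
            have := j.isLt
            simp only [Fin.val_last] at h2 ⊢
            omega
          · simp
        · simp
  · push_neg at hv
    simp only [Pi.sub_apply, Pi.single_apply]
    rw [if_neg (Ne.symm (hv 0)), if_neg (Ne.symm (hv _)), sub_zero]
    have key : ∀ u, mfMatrix ends β v u * g u =
        (if v ∈ S then 1 else 0) * (mfMatrix ends β v u * β u) := by
      intro u
      by_cases h0 : mfMatrix ends β v u = 0
      · simp [h0]
      · have hgu : g u = if u ∈ S then β u else 0 := by
          by_cases hu : ∃ i, f i = u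
          · obtain ⟨i, rfl⟩ := hu
            apply hgm
            by_contra hc
            push_neg at hc
            apply h0
            rw [mf_symm]
            exact mf_inner H (by omega) (by omega) v hv
          · push_neg at hu; exact goff u hu
        have hside : v ∈ S ↔ u ∈ S := by
          by_cases hvu : v = u
          · rw [hvu]
          · exact (hnb u v hv (Ne.symm hvu) (by rwa [mf_symm])).symm
        rw [hgu]
        by_cases hS' : v ∈ S
        · rw [if_pos hS', if_pos (hside.1 hS'), one_mul]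
        · rw [if_neg hS', if_neg (fun h => hS' (hside.2 h))]; simp
    simp only [Matrix.mulVec, dotProduct, key, ← Finset.mul_sum, mf_row H.hβ, mul_zero]

omit H in
lemma liftAt_val (hC : IsChain ends f e) (x : CtrVert ends (univ.image e) → ℤ) (v : V) :
    liftAt ends (univ.image e) (f 0) x v =
      if ∃ i, f i = v ∧ i ≠ 0 then 0 else x (ctrMk ends (univ.image e) v) := by
  unfold liftAt
  by_cases h : ∃ i, f i = v ∧ i ≠ 0
  · obtain ⟨i, rfl, hi⟩ := h
    rw [if_pos ⟨chain_class hC i, fun hh => hi (hC.1 hh)⟩, if_pos ⟨i, rfl, hi⟩]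
  · rw [if_neg h, if_neg]
    rintro ⟨hcl, hne⟩
    rcases chain_class_iff hC hcl with h' | ⟨⟨i, hi⟩, -⟩
    · exact hne h'
    · exact h ⟨i, hi, fun h0 => hne (by rw [← hi, h0])⟩

omit H in
/-- Off the chain the fibre is a singleton. -/
lemma fib_off (hC : IsChain ends f e) {v : V} (hv : ∀ j, f j ≠ v) :
    fib ends (univ.image e) (ctrMk ends (univ.image e) v) = {v} := by
  ext w
  rw [mem_fib, mem_singleton]
  refine ⟨fun h => ?_, fun h => by rw [h]⟩
  rcases chain_class_iff hC h with h' | ⟨-, j, hj⟩
  · exact h'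
  · exact absurd hj (hv j)

omit H in
lemma fib_chain (hC : IsChain ends f e) :
    fib ends (univ.image e) (ctrMk ends (univ.image e) (f 0)) = univ.image f := by
  ext w
  rw [mem_fib, mem_image]
  refine ⟨fun h => ?_, fun ⟨i, _, h⟩ => by rw [← h, chain_class hC]⟩
  rcases chain_class_iff hC h with h' | ⟨⟨i, hi⟩, -⟩
  · exact ⟨0, mem_univ _, h'.symm⟩
  · exact ⟨i, mem_univ _, hi⟩

omit H in
lemma sum_fib_lift (hC : IsChain ends f e) (x : CtrVert ends (univ.image e) → ℤ)
    (a : CtrVert ends (univ.image e)) :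
    ∑ v ∈ fib ends (univ.image e) a, liftAt ends (univ.image e) (f 0) x v = x a := by
  obtain ⟨v, rfl⟩ := ctrMk_surjective ends (univ.image e) a
  by_cases hv : ∃ i, f i = v
  · obtain ⟨i, rfl⟩ := hv
    rw [chain_class hC, fib_chain hC, Finset.sum_image (fun a _ b _ h => hC.1 h),
      Finset.sum_eq_single (0 : Fin _)]
    · rw [liftAt_val hC, if_neg]
      rintro ⟨j, hj, hj0⟩
      exact hj0 (hC.1 hj)
    · intro j _ hj
      rw [liftAt_val hC, if_pos ⟨j, rfl, hj⟩]
    · simp
  · push_neg at hv
    rw [fib_off hC hv, Finset.sum_singleton, liftAt_val hC, if_neg]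
    rintro ⟨j, hj, -⟩
    exact hv j hj

/-- The image of `α'` lifts into the image of `α`. -/
lemma lift_range (X : CtrVert ends (univ.image e) → ℤ) :
    liftAt ends (univ.image e) (f 0)
        ((mfMatrix (ctrEnds ends (univ.image e)) (ctrFn ends (univ.image e) β)).mulVec X) ∈
      LinearMap.range (Matrix.mulVecLin (mfMatrix ends β)) := by
  classical
  obtain ⟨g, -, hgA⟩ := exists_g H
  set Xp : V → ℤ := fun w => X (ctrMk ends (univ.image e) w) with hXp
  set Y := (mfMatrix ends β).mulVec Xp with hY
  refine ⟨Xp + Y (f (Fin.last m)) • g, ?_⟩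
  rw [Matrix.mulVecLin_apply, Matrix.mulVec_add, Matrix.mulVec_smul, hgA]
  have hinj := H.hC.1
  have hin : ∀ i : Fin (m + 1), 0 < (i : ℕ) → (i : ℕ) < m → Y (f i) = 0 := by
    intro i h0 h1
    rw [hY, mulVec_inner H h0 h1]
    simp only [hXp, chain_class H.hC]
    ring
  funext v
  rw [liftAt_val H.hC, mf_ctr_mulVec H.hβ H.const]
  simp only [Pi.add_apply, Pi.smul_apply, Pi.sub_apply, Pi.single_apply, smul_eq_mul, ← hY]
  have hm := H.m_pos
  by_cases hv : ∃ i, f i = v
  · obtain ⟨i, rfl⟩ := hv
    simp only [hinj.eq_iff]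
    by_cases hi : i = 0
    · subst hi
      rw [if_pos rfl, if_neg (by simp [Fin.ext_iff]; omega), if_neg (by simp),
        fib_chain H.hC, Finset.sum_image (fun a _ b _ h => hinj h)]
      rw [← Finset.sum_subset (Finset.subset_univ ({0, Fin.last m} : Finset (Fin (m + 1))))]
      · rw [Finset.sum_pair (by simp [Fin.ext_iff]; omega)]; ring
      · intro j _ hj
        simp only [mem_insert, mem_singleton, not_or, Fin.ext_iff, Fin.val_zero, Fin.val_last] at hj
        exact hin j (by omega) (by omega)
    · by_cases hl : i = Fin.last m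
      · subst hl; simp [hi]
      · rw [hin i (Nat.pos_of_ne_zero (fun h => hi (Fin.ext h)))
          (lt_of_le_of_ne (by omega) (fun h => hl (Fin.ext h)))]
        simp [hi, hl]
  · push_neg at hv
    rw [if_neg (Ne.symm (hv 0)), if_neg (Ne.symm (hv _)), if_neg (fun ⟨j, hj, _⟩ => hv j hj),
      fib_off H.hC hv, Finset.sum_singleton]
    ring

/-- Injectivity. -/
lemma mem_range_of_lift (x : CtrVert ends (univ.image e) → ℤ)
    (hfx : liftAt ends (univ.image e) (f 0) x ∈
      LinearMap.range (Matrix.mulVecLin (mfMatrix ends β))) :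
    x ∈ LinearMap.range (Matrix.mulVecLin
      (mfMatrix (ctrEnds ends (univ.image e)) (ctrFn ends (univ.image e) β))) := by
  classical
  obtain ⟨g, hgc, hgA⟩ := exists_g H
  obtain ⟨y, hy⟩ := hfx
  rw [Matrix.mulVecLin_apply] at hy
  have hm := H.m_pos
  have hinj := H.hC.1
  set d := y (f ⟨1, by omega⟩) - y (f 0) with hd
  have harith : ∀ n : ℕ, ∀ hn : n ≤ m, y (f ⟨n, by omega⟩) = y (f 0) + n * d := by
    intro n
    induction n using Nat.strong_induction_on with
    | _ n ih =>
      intro hn
      match n with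
      | 0 => simp
      | 1 => simp [hd]
      | n + 2 =>
        have h1 := mulVec_inner H (i := ⟨n + 1, by omega⟩) (by simp) (by simp; omega) y
        rw [hy, liftAt_val H.hC, if_pos ⟨_, rfl, by simp [Fin.ext_iff]⟩] at h1
        simp only [Nat.add_sub_cancel] at h1
        rw [ih n (by omega) (by omega), ih (n + 1) (by omega) (by omega)] at h1
        push_cast at h1 ⊢
        linarith
  set y' : V → ℤ := y - d • g with hy'
  have hconst : ∀ i, y' (f i) = y (f 0) := by
    intro i
    have := harith i (by omega)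
    simp only [Fin.eta] at this
    simp only [hy', Pi.sub_apply, Pi.smul_apply, smul_eq_mul, hgc, this]
    ring
  set X : CtrVert ends (univ.image e) → ℤ := fun a => y' (Quotient.out (s := ctrSetoid ends _) a) with hX
  have hXp : (fun w => X (ctrMk ends (univ.image e) w)) = y' := by
    funext w
    have hcl : ctrMk ends (univ.image e) (Quotient.out (s := ctrSetoid ends _)
        (ctrMk ends (univ.image e) w)) = ctrMk ends (univ.image e) w := Quotient.out_eq _
    rcases chain_class_iff H.hC hcl with h | ⟨⟨i, hi⟩, j, hj⟩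
    · simp only [hX]; rw [h]
    · simp only [hX]; rw [← hi, ← hj, hconst, hconst]
  refine ⟨X, ?_⟩
  funext a
  rw [Matrix.mulVecLin_apply, mf_ctr_mulVec H.hβ H.const, hXp, hy', Matrix.mulVec_sub,
    Matrix.mulVec_smul, hy, hgA]
  simp only [Pi.sub_apply, Pi.smul_apply, Pi.single_apply, smul_eq_mul, Finset.sum_sub_distrib,
    ← Finset.mul_sum, sum_fib_lift H.hC, Finset.sum_ite_eq']
  simp [mem_fib, chain_class H.hC]

omit H in
lemma liftAt_linear (hC : IsChain ends f e) (x x' : CtrVert ends (univ.image e) → ℤ) (c : ℤ) :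
    liftAt ends (univ.image e) (f 0) (x + c • x') =
      liftAt ends (univ.image e) (f 0) x + c • liftAt ends (univ.image e) (f 0) x' := by
  funext v
  simp only [liftAt_val hC, Pi.add_apply, Pi.smul_apply, smul_eq_mul]
  split_ifs <;> simp

lemma beta_lift (x : CtrVert ends (univ.image e) → ℤ) :
    betaHom β (liftAt ends (univ.image e) (f 0) x) =
      betaHom (ctrFn ends (univ.image e) β) x := by
  rw [betaHom_apply, betaHom_apply, ← sum_fib (ends := ends) (D := univ.image e)]
  apply Finset.sum_congr rfl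
  intro a _
  rw [← sum_fib_lift H.hC x a, Finset.sum_mul]
  apply Finset.sum_congr rfl
  intro v hv
  rw [mem_fib] at hv
  rw [← hv, ctrFn_mk H.const]

/-- Surjectivity: modulo `im α` every vector is supported off `v₁, …, v_m`. -/
lemma exists_reduce (y : V → ℤ) : ∀ d : ℕ, d ≤ m → ∃ z : V → ℤ, ∀ i : Fin (m + 1),
    m - d < (i : ℕ) → (y - (mfMatrix ends β).mulVec z) (f i) = 0 := by
  intro d
  induction d with
  | zero => intro _; exact ⟨0, fun i hi => absurd hi (by omega)⟩
  | succ d ih =>
    intro hd
    obtain ⟨z, hz⟩ := ih (by omega)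
    set p : Fin (m + 1) := ⟨m - d, by omega⟩ with hp
    set q : Fin (m + 1) := ⟨m - d - 1, by omega⟩ with hq
    set c := (y - (mfMatrix ends β).mulVec z) (f p) with hc
    refine ⟨z + Pi.single (f q) c, fun i hi => ?_⟩
    rw [Matrix.mulVec_add, ← sub_sub, Pi.sub_apply, Matrix.mulVec_single]
    simp only [Pi.smul_apply, Matrix.col_apply, MulOpposite.smul_eq_mul_unop, MulOpposite.unop_op]
    rw [mf_chain H, if_neg (by simp [hq, Fin.ext_iff]; omega)]
    by_cases hip : (i : ℕ) = m - d
    · have : i = p := Fin.ext (by simp [hp, hip])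
      subst this
      rw [if_pos (Or.inr (by simp [hq, hp]; omega)), ← hc]
      ring
    · rw [hz i (by omega), if_neg (by simp [hq]; omega)]
      ring

theorem surjective :
    ∃ φ : CompGrp (ctrEnds ends (univ.image e)) (ctrFn ends (univ.image e) β) →+
        CompGrp ends β,
      Function.Surjective φ ∧
      ∀ (x : LinearMap.ker (betaHom (ctrFn ends (univ.image e) β)))
        (y : LinearMap.ker (betaHom β)),
        (y : V → ℤ) = liftAt ends (univ.image e) (f 0) (x : CtrVert ends (univ.image e) → ℤ) →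
        φ (Submodule.Quotient.mk x) = Submodule.Quotient.mk y := by
  classical
  let L : (CtrVert ends (univ.image e) → ℤ) →ₗ[ℤ] (V → ℤ) :=
    { toFun := liftAt ends (univ.image e) (f 0)
      map_add' := fun x x' => by simpa using liftAt_linear H.hC x x' 1
      map_smul' := fun c x => by
        have h0 : liftAt ends (univ.image e) (f 0) (0 : CtrVert ends (univ.image e) → ℤ) = 0 := by
          funext v; simp [liftAt_val H.hC]
        simpa [h0] using liftAt_linear H.hC 0 x c }
  let L' : LinearMap.ker (betaHom (ctrFn ends (univ.image e) β)) →ₗ[ℤ]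
      LinearMap.ker (betaHom β) :=
    LinearMap.codRestrict _ (L.comp (Submodule.subtype _)) fun x => by
      rw [LinearMap.mem_ker]
      show betaHom β (liftAt ends (univ.image e) (f 0) x.1) = 0
      rw [beta_lift H]; exact x.2
  let N₁ := (LinearMap.range (Matrix.mulVecLin
      (mfMatrix (ctrEnds ends (univ.image e)) (ctrFn ends (univ.image e) β)))).comap
      (LinearMap.ker (betaHom (ctrFn ends (univ.image e) β))).subtype
  let N₂ := (LinearMap.range (Matrix.mulVecLin (mfMatrix ends β))).comap
      (LinearMap.ker (betaHom β)).subtype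
  have hle : N₁ ≤ N₂.comap L' := by
    rintro x ⟨X, hX⟩
    show liftAt ends (univ.image e) (f 0) x.1 ∈
      LinearMap.range (Matrix.mulVecLin (mfMatrix ends β))
    rw [Matrix.mulVecLin_apply] at hX
    have := lift_range H X
    rw [hX] at this
    exact this
  refine ⟨(N₁.mapQ N₂ L' hle).toAddMonoidHom, ?_, ?_⟩
  · intro q
    obtain ⟨y, rfl⟩ := Submodule.Quotient.mk_surjective _ q
    obtain ⟨z, hz⟩ := exists_reduce H y.1 m le_rfl
    set y₁ := y.1 - (mfMatrix ends β).mulVec z with hy₁
    let x : CtrVert ends (univ.image e) → ℤ := fun a => ∑ v ∈ fib ends (univ.image e) a, y₁ v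
    have hlx : liftAt ends (univ.image e) (f 0) x = y₁ := by
      funext v
      rw [liftAt_val H.hC]
      by_cases hv : ∃ i, f i = v ∧ i ≠ 0
      · obtain ⟨i, rfl, hi⟩ := hv
        rw [if_pos ⟨i, rfl, hi⟩, hz i]
        have : (i : ℕ) ≠ 0 := fun h => hi (Fin.ext h)
        omega
      · rw [if_neg hv]
        by_cases hv' : ∃ i, f i = v
        · obtain ⟨i, rfl⟩ := hv'
          have hi : i = 0 := by by_contra h; exact hv ⟨i, rfl, h⟩
          subst hi
          simp only [x]
          rw [fib_chain H.hC, Finset.sum_image (fun a _ b _ h => H.hC.1 h), Finset.sum_eq_single 0]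
          · intro j _ hj
            apply hz
            have : (j : ℕ) ≠ 0 := fun h => hj (Fin.ext h)
            omega
          · simp
        · push_neg at hv'
          simp only [x]
          rw [fib_off H.hC hv', Finset.sum_singleton]
    have hbeta : ∀ z, betaHom β ((mfMatrix ends β).mulVec z) = 0 := by
      intro z
      rw [betaHom_apply]
      simp only [Matrix.mulVec, dotProduct, Finset.sum_mul]
      rw [Finset.sum_comm]
      apply Finset.sum_eq_zero
      intro w _
      have := mf_row H.hβ w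
      calc ∑ v, mfMatrix ends β v w * z w * β v
          = (∑ v, mfMatrix ends β w v * β v) * z w := by
            rw [Finset.sum_mul]; apply Finset.sum_congr rfl; intro v _; rw [mf_symm ends β v w]; ring
        _ = 0 := by rw [this, zero_mul]
    have hx : x ∈ LinearMap.ker (betaHom (ctrFn ends (univ.image e) β)) := by
      rw [LinearMap.mem_ker, ← beta_lift H, hlx, hy₁, map_sub, hbeta, sub_zero]
      exact y.2
    refine ⟨Submodule.Quotient.mk ⟨x, hx⟩, ?_⟩
    show N₁.mapQ N₂ L' hle (Submodule.Quotient.mk ⟨x, hx⟩) = _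
    rw [Submodule.mapQ_apply, Submodule.Quotient.eq]
    refine ⟨-z, ?_⟩
    rw [Matrix.mulVecLin_apply, Matrix.mulVec_neg]
    show -_ = liftAt ends (univ.image e) (f 0) x - y.1
    rw [hlx, hy₁]; abel
  · intro x y hxy
    show N₁.mapQ N₂ L' hle (Submodule.Quotient.mk x) = _
    rw [Submodule.mapQ_apply]
    congr 1
    exact Subtype.ext hxy.symm

end Chn

end LeadLabGraph
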