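import Groth.Agent.Lead.LabGraph.Trees
import Groth.Agent.Lead.LabGraph.Chain

/-! The weighted matrix-tree theorem and the order of the component group. -/

universe u

open Finset

namespace LeadLabGraph

variable {V E : Type u} [Fintype V] [Fintype E] [DecidableEq V] [DecidableEq E]
variable (ends : E → V × V)

open LabGraph

/-- The weighted Laplacian. -/
def lap {R : Type*} [CommRing R] (w : E → R) : Matrix V V R := fun v u =>
  ∑ d ∈ univ.filter (fun d : E × Bool => dsrc ends d = v),
    w d.1 * ((if v = u then 1 else 0) - (if dtgt ends d = u then 1 else 0))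

lemma lap_row {R : Type*} [CommRing R] (w : E → R) (v : V) : ∑ u, lap ends w v u = 0 := by
  simp only [lap]
  rw [Finset.sum_comm]
  apply Finset.sum_eq_zero
  intro d _
  simp [← Finset.mul_sum]

variable {ends}

/-- The matrix of a choice. -/
def chMat {r : V} (R : Type*) [CommRing R] (f : {v : V // v ≠ r} → E × Bool) :
    Matrix {v : V // v ≠ r} {v : V // v ≠ r} R := fun v u =>
  (if v.1 = u.1 then 1 else 0) - (if dtgt ends (f v) = u.1 then 1 else 0)

lemma det_chMat {r : V} (f : {v : V // v ≠ r} → E × Bool) [Decidable (∀ v, ∃ k, (sc ends f)^[k] v = r)] :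
    (chMat (ends := ends) ℤ f).det = if (∀ v, ∃ k, (sc ends f)^[k] v = r) then 1 else 0 := by
  classical
  split_ifs with h
  · set P : Matrix {v : V // v ≠ r} {v : V // v ≠ r} ℤ :=
      fun v u => if sc ends f v.1 = u.1 then 1 else 0 with hP
    have hPk : ∀ k v u, (P ^ k) v u = if (sc ends f)^[k] v.1 = u.1 then 1 else 0 := by
      intro k
      induction k with
      | zero => intro v u; simp [Matrix.one_apply, Subtype.ext_iff]
      | succ k ih =>
        intro v u
        rw [pow_succ', Matrix.mul_apply, Function.iterate_succ_apply]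
        simp only [hP, ite_mul, one_mul, zero_mul]
        by_cases hs : sc ends f v.1 = r
        · rw [Finset.sum_eq_zero (fun x _ => by rw [if_neg]; rw [hs]; exact fun h => x.2 h.symm),
            hs, iter_r, if_neg (fun h => u.2 h.symm)]
        · rw [Finset.sum_eq_single (⟨sc ends f v.1, hs⟩ : {v : V // v ≠ r})]
          · rw [if_pos rfl]
            exact ih _ _
          · intro x _ hx
            rw [if_neg]
            exact fun h => hx (Subtype.ext h.symm)
          · simp
    choose k hk using h
    have hnil : IsNilpotent P := by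
      refine ⟨univ.sup k, ?_⟩
      ext v u
      rw [hPk, iter_mono (hk v.1) (Finset.le_sup (mem_univ _)), if_neg (fun h => u.2 h.symm)]
      rfl
    have hcp := (Matrix.isNilpotent_charpoly_sub_pow_of_isNilpotent hnil).eq_zero
    rw [sub_eq_zero] at hcp
    have heq : chMat (ends := ends) ℤ f = Matrix.scalar _ (1 : ℤ) - P := by
      ext v u
      simp [chMat, hP, Matrix.one_apply, Subtype.ext_iff, sc_ne]
    rw [heq, ← Matrix.eval_charpoly, hcp]
    simp
  · push_neg at h
    obtain ⟨v₀, hv₀⟩ := h
    set x : {v : V // v ≠ r} → ℤ := fun v => if ∃ k, (sc ends f)^[k] v.1 = r then 0 else 1 with hx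
    refine Matrix.exists_mulVec_eq_zero_iff.1 ⟨x, ?_, ?_⟩
    · intro h0
      have := congrFun h0 ⟨v₀, fun h => hv₀ 0 h⟩
      rw [hx] at this
      simp only [Pi.zero_apply] at this
      rw [if_neg (fun ⟨k, hk⟩ => hv₀ k hk)] at this
      exact one_ne_zero this
    · funext v
      simp only [Matrix.mulVec, dotProduct, chMat, sub_mul, ite_mul, one_mul, zero_mul,
        Finset.sum_sub_distrib, Pi.zero_apply]
      rw [Finset.sum_eq_single v (fun u _ hu => if_neg (fun h => hu (Subtype.ext h.symm)))
        (by simp), if_pos rfl]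
      have hiff : (∃ k, (sc ends f)^[k] v.1 = r) ↔ ∃ k, (sc ends f)^[k] (dtgt ends (f v)) = r := by
        rw [← sc_ne v]
        constructor
        · rintro ⟨k, hk⟩
          cases k with
          | zero => exact absurd hk v.2
          | succ k => exact ⟨k, by rwa [← Function.iterate_succ_apply]⟩
        · rintro ⟨k, hk⟩
          exact ⟨k + 1, by rwa [Function.iterate_succ_apply]⟩
      by_cases hs : dtgt ends (f v) = r
      · rw [Finset.sum_eq_zero (fun u _ => if_neg (fun h : dtgt ends (f v) = u.1 => u.2 (h ▸ hs)))]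
        simp only [hx, sub_zero]
        rw [if_pos (hiff.2 ⟨0, hs⟩)]
      · rw [Finset.sum_eq_single (⟨dtgt ends (f v), hs⟩ : {v : V // v ≠ r})
          (fun u _ hu => if_neg (fun h => hu (Subtype.ext h.symm))) (by simp), if_pos rfl]
        simp only [hx]
        by_cases hh : ∃ k, (sc ends f)^[k] v.1 = r
        · rw [if_pos hh, if_pos (hiff.1 hh), sub_zero]
        · rw [if_neg hh, if_neg (fun h => hh (hiff.2 h)), sub_self]

open scoped Classical in
/-- Weighted matrix-tree theorem. -/
theorem matrix_tree (w : E → ℤ) (r : V) :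
    ((lap ends w).submatrix (Subtype.val : {v : V // v ≠ r} → V) Subtype.val).det =
      ∑ T ∈ univ.powerset.filter (fun T : Finset E => IsSpanningTree ends T), ∏ e ∈ T, w e := by
  set V' := {v : V // v ≠ r}
  have h1 : ((lap ends w).submatrix (Subtype.val : V' → V) Subtype.val).det =
      ∑ f ∈ Fintype.piFinset (fun v : V' => univ.filter fun d : E × Bool => dsrc ends d = v.1),
        (∏ v, w (f v).1) * (if (∀ v, ∃ k, (sc ends f)^[k] v = r) then 1 else 0) := by
    have hrow : ((lap ends w).submatrix (Subtype.val : V' → V) Subtype.val) =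
        fun v : V' => ∑ d ∈ univ.filter (fun d : E × Bool => dsrc ends d = v.1),
          (fun u : V' => w d.1 * ((if v.1 = u.1 then 1 else 0) -
            (if dtgt ends d = u.1 then 1 else 0))) := by
      funext v u
      simp [lap, Matrix.submatrix, Finset.sum_apply]
    rw [hrow]
    show (Matrix.detRowAlternating (R := ℤ) (n := V')).toMultilinearMap _ = _
    rw [MultilinearMap.map_sum_finset]
    apply Finset.sum_congr rfl
    intro f _
    show Matrix.det (Matrix.of fun (v : V') (u : V') => w (f v).1 * chMat (ends := ends) ℤ f v u) = _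
    rw [Matrix.det_mul_column, det_chMat]
  rw [h1]
  simp only [mul_ite, mul_one, mul_zero, ← Finset.sum_filter]
  refine Finset.sum_bij (fun f _ => img f) ?_ ?_ ?_ ?_
  · intro f hf
    simp only [mem_filter, Fintype.mem_piFinset, mem_univ, true_and] at hf
    have hg : Good ends f := ⟨hf.1, hf.2⟩
    simp only [mem_filter, mem_powerset, Finset.subset_univ, true_and]
    exact hg.isSpanningTree
  · intro f hf g hg h
    simp only [mem_filter, Fintype.mem_piFinset, mem_univ, true_and] at hf hg
    exact good_unique ⟨hf.1, hf.2⟩ ⟨hg.1, hg.2⟩ h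
  · intro T hT
    simp only [mem_filter] at hT
    obtain ⟨f, hf, rfl⟩ := exists_good_eq r T hT.2
    exact ⟨f, by simpa only [mem_filter, Fintype.mem_piFinset, mem_univ, true_and] using ⟨hf.1, hf.2⟩, rfl⟩
  · intro f hf
    simp only [mem_filter, Fintype.mem_piFinset, mem_univ, true_and] at hf
    exact (prod_img ⟨hf.1, hf.2⟩ w).symm

/-- Index of the column lattice of a square integer matrix. -/
lemma card_coker {ι : Type*} [Fintype ι] [DecidableEq ι] (M : Matrix ι ι ℤ) (h : M.det ≠ 0) :
    Nat.card ((ι → ℤ) ⧸ LinearMap.range M.mulVecLin) = M.det.natAbs := by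
  have hinj : Function.Injective M.mulVecLin := by
    rw [← LinearMap.ker_eq_bot, LinearMap.ker_eq_bot']
    intro x hx
    by_contra hne
    exact h (Matrix.exists_mulVec_eq_zero_iff.1 ⟨x, hne, by simpa using hx⟩)
  let eq := LinearEquiv.ofInjective M.mulVecLin hinj
  rw [← Submodule.natAbs_det_equiv (LinearMap.range M.mulVecLin) eq]
  have : (LinearMap.range M.mulVecLin).subtype ∘ₗ
      AddMonoidHom.toIntLinearMap (eq : (ι → ℤ) →+ LinearMap.range M.mulVecLin) =
      Matrix.toLin' M := by
    apply LinearMap.ext; intro x; rfl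
  rw [this, LinearMap.det_toLin']

variable (ends)

open scoped Classical in
/-- The order of the component group. -/
theorem card_compGrp (β : V → ℤ) (hβ : IsMultFn ends β) (hG : LabGraph.Connected ends) :
    (Nat.card (CompGrp ends β) : ℚ) =
      ((univ.gcd β : ℤ) : ℚ) ^ 2 *
        ∑ T ∈ univ.powerset.filter (fun T : Finset E => IsSpanningTree ends T),
          ∏ v : V, ((β v : ℚ) ^ ((nbrCount ends T v : ℤ) - 2)) := by
  classical
  obtain ⟨r⟩ := hG.1
  haveI : Nonempty V := ⟨r⟩
  set α := mfMatrix ends β with hα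
  set w : E → ℤ := fun e => β (ends e).1 * β (ends e).2 with hw
  -- the Laplacian
  have hoff : ∀ v u, v ≠ u → lap ends w v u = -(β v * α v u * β u) := by
    intro v u hvu
    simp only [lap, if_neg hvu, zero_sub, mul_neg, mul_ite, mul_one, mul_zero, Finset.sum_neg_distrib]
    rw [← Finset.sum_filter, Finset.filter_filter]
    have : ∀ d ∈ univ.filter (fun d : E × Bool => dsrc ends d = v ∧ dtgt ends d = u),
        w d.1 = β v * β u := by
      intro d hd
      simp only [mem_filter, mem_univ, true_and] at hd
      have := dart_link ends d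
      rw [hd.1, hd.2] at this
      rcases this with h | h <;> simp only [hw, h]
      ring
    rw [Finset.sum_congr rfl this, Finset.sum_const, hα, mf_off ends β hvu, nsmul_eq_mul]
    have hc : (univ.filter (fun d : E × Bool => dsrc ends d = v ∧ dtgt ends d = u)).card =
        edgeMult ends v u := by
      refine Finset.card_bij (fun d _ => d.1) ?_ ?_ ?_
      · intro d hd
        simp only [mem_filter, mem_univ, true_and] at hd ⊢
        have := dart_link ends d
        rwa [hd.1, hd.2] at this
      · intro d hd d' hd' h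
        simp only [mem_filter, mem_univ, true_and] at hd hd'
        rcases d with ⟨e, b⟩; rcases d' with ⟨e', b'⟩
        simp only at h; subst h
        cases b <;> cases b' <;> simp_all [dsrc, dtgt]
      · intro e he
        simp only [mem_filter, mem_univ, true_and] at he
        obtain ⟨d, hd, hd1, hd2⟩ := link_dart ends he
        exact ⟨d, by simp [hd1, hd2], hd⟩
    rw [hc]; ring
  have hlap : ∀ v u, lap ends w v u = -(β v * α v u * β u) := by
    intro v u
    by_cases hvu : v = u
    · subst hvu
      have h1 := lap_row ends w v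
      have h2 := mf_row hβ v
      rw [← Finset.add_sum_erase _ _ (mem_univ v)] at h1 h2
      rw [Finset.sum_congr rfl (fun u hu => hoff v u (Ne.symm (Finset.ne_of_mem_erase hu)))] at h1
      have h3 : ∑ x ∈ univ.erase v, -(β v * α v x * β x) =
          -(β v * ∑ x ∈ univ.erase v, α v x * β x) := by
        rw [Finset.mul_sum, ← Finset.sum_neg_distrib]
        apply Finset.sum_congr rfl; intros; ring
      rw [h3] at h1
      linear_combination h1 + β v * h2
    · exact hoff v u hvu
  set A := α.submatrix (Subtype.val : {v : V // v ≠ r} → V) Subtype.val with hA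
  set S : ℤ := ∑ T ∈ univ.powerset.filter (fun T : Finset E => IsSpanningTree ends T), ∏ e ∈ T, w e
  have hS : (∏ v : {v : V // v ≠ r}, β v.1) ^ 2 * (-A).det = S := by
    have hmat : (lap ends w).submatrix (Subtype.val : {v : V // v ≠ r} → V) Subtype.val =
        Matrix.diagonal (fun v : {v : V // v ≠ r} => β v.1) * (-A) *
          Matrix.diagonal (fun v : {v : V // v ≠ r} => β v.1) := by
      ext v u
      rw [Matrix.mul_diagonal, Matrix.diagonal_mul]
      simp only [Matrix.submatrix_apply, Matrix.neg_apply, hA, hlap]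
      ring
    have := matrix_tree (ends := ends) w r
    rw [hmat, Matrix.det_mul, Matrix.det_mul, Matrix.det_diagonal] at this
    rw [show S = _ from this.symm]; ring
  have hwpos : ∀ e, 0 < w e := fun e => mul_pos (hβ _).1 (hβ _).1
  obtain ⟨f₀, hf₀, -⟩ := exists_good (ends := ends) (r := r) univ (fun v => by
    have hh : ∀ a b, LabGraph.Adj ends a b → AdjIn ends univ a b :=
      fun a b ⟨e, he⟩ => ⟨e, mem_univ e, he⟩
    exact Relation.ReflTransGen.mono hh v r (hG.2 v r))
  have hSpos : 0 < S := by
    refine Finset.sum_pos (fun T _ => Finset.prod_pos fun e _ => hwpos e)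
      ⟨img f₀, ?_⟩
    simp only [mem_filter, mem_powerset, Finset.subset_univ, true_and]
    exact hf₀.isSpanningTree
  have hdet : (S : ℤ) = (∏ v : {v : V // v ≠ r}, β v.1) ^ 2 * (A.det.natAbs : ℤ) := by
    have h1 : |(-A).det| = (A.det.natAbs : ℤ) := by
      rw [Matrix.det_neg, abs_mul, abs_pow, abs_neg, abs_one, one_pow, one_mul, Int.natCast_natAbs]
    rw [← h1, ← hS]
    rw [abs_of_pos]
    by_contra hc
    push_neg at hc
    have := mul_nonpos_of_nonneg_of_nonpos (sq_nonneg (∏ v : {v : V // v ≠ r}, β v.1)) hc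
    omega
  -- normalise β
  obtain ⟨b, hb, hbgcd⟩ := Finset.extract_gcd β (univ_nonempty (α := V))
  set m := univ.gcd β with hm
  have hmb : ∀ v, β v = m * b v := fun v => hb v (mem_univ v)
  obtain ⟨z, hz⟩ := Finset.gcd_eq_sum_mul (univ : Finset V) b
  rw [hbgcd] at hz
  have hm0 : m ≠ 0 := fun h => by have := (hβ r).1; rw [hmb, h, zero_mul] at this; omega
  have hbr : b r ≠ 0 := fun h => by have := (hβ r).1; rw [hmb, h, mul_zero] at this; omega
  have hαb : ∀ v, ∑ u, α v u * b u = 0 := by
    intro v
    have h2 := mf_row hβ v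
    simp only [hmb] at h2
    have : m * ∑ u, α v u * b u = 0 := by
      rw [Finset.mul_sum, ← h2]; apply Finset.sum_congr rfl; intros; rw [hα]; ring
    exact (mul_eq_zero.1 this).resolve_left hm0
  have hbα : ∀ u, ∑ v, b v * α v u = 0 := by
    intro u
    rw [← hαb u]; apply Finset.sum_congr rfl; intros; rw [hα, mf_symm]; ring
  have hzb : ∑ u, z u * b u = 1 := by
    rw [hz]; apply Finset.sum_congr rfl; intros; ring
  -- the auxiliary square matrix
  set B : Matrix V V ℤ := fun v u => α v u + z v * z u with hB
  set U : Matrix V V ℤ := (1 : Matrix V V ℤ).updateCol r b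
  set U₂ : Matrix V V ℤ := (1 : Matrix V V ℤ).updateRow r (fun u => if u = r then 1 else -z u)
  set U₃ : Matrix V V ℤ := (1 : Matrix V V ℤ).updateRow r b
  have hU : U.det = b r := by
    show ((1 : Matrix V V ℤ).updateCol r b).det = b r
    rw [← Matrix.cramer_apply, Matrix.cramer_one]
    rfl
  have hU3 : U₃.det = b r := by
    show ((1 : Matrix V V ℤ).updateRow r b).det = b r
    rw [← Matrix.det_transpose, ← Matrix.updateCol_transpose, Matrix.transpose_one,
      ← Matrix.cramer_apply, Matrix.cramer_one]
    rfl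
  have hU2 : U₂.det = 1 := by
    show ((1 : Matrix V V ℤ).updateRow r (fun u => if u = r then 1 else -z u)).det = 1
    rw [← Matrix.det_transpose, ← Matrix.updateCol_transpose, Matrix.transpose_one,
      ← Matrix.cramer_apply, Matrix.cramer_one]
    simp
  have hBU : ∀ v u, (B * U) v u = if u = r then z v else B v u := by
    intro v u
    rw [Matrix.mul_apply]
    by_cases hu : u = r
    · subst hu
      simp only [U, Matrix.updateCol_self, if_pos rfl, hB, add_mul, Finset.sum_add_distrib]
      rw [hαb, zero_add]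
      calc ∑ x, z v * z x * b x = z v * ∑ x, z x * b x := by
            rw [Finset.mul_sum]; apply Finset.sum_congr rfl; intros; ring
        _ = z v := by rw [hzb, mul_one]
    · simp only [U, Matrix.updateCol_ne hu, if_neg hu]
      simp [Matrix.one_apply]
  have hBUU : ∀ v u, (B * U * U₂) v u = if u = r then z v else α v u := by
    intro v u
    rw [Matrix.mul_apply, ← Finset.add_sum_erase _ _ (mem_univ r)]
    rw [Finset.sum_congr rfl (fun x hx => by
      simp only [U₂, Matrix.updateRow_ne (Finset.ne_of_mem_erase hx), Matrix.one_apply]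
      rfl)]
    simp only [U₂, Matrix.updateRow_self, hBU, if_pos rfl, mul_ite, mul_one, mul_zero,
      Finset.sum_ite_eq', mem_erase, mem_univ, and_true]
    by_cases hu : u = r
    · subst hu; simp
    · simp only [if_neg hu, if_pos hu, if_true, ne_eq, not_false_iff, hB]
      ring
  set M := U₃ * (B * U * U₂) with hM
  have hMr : ∀ u, M r u = if u = r then 1 else 0 := by
    intro u
    simp only [hM, Matrix.mul_apply (M := U₃), U₃, Matrix.updateRow_self, hBUU]
    by_cases hu : u = r
    · simp only [if_pos hu]
      rw [← hzb]; apply Finset.sum_congr rfl; intros; ring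
    · simp only [if_neg hu]; exact hbα u
  have hMne : ∀ v, v ≠ r → ∀ u, M v u = if u = r then z v else α v u := by
    intro v hv u
    simp only [hM, Matrix.mul_apply (M := U₃), U₃, Matrix.updateRow_ne hv, Matrix.one_apply, hBUU,
      ite_mul, one_mul, zero_mul, Finset.sum_ite_eq, mem_univ, if_true]
  have hMdet : M.det = A.det := by
    rw [Matrix.twoBlockTriangular_det M (fun v => v ≠ r) (by
      intro i hi j hj
      rw [not_not] at hi
      rw [hi, hMr, if_neg hj])]
    have h1 : M.toSquareBlockProp (fun v => v ≠ r) = A := by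
      ext v u
      simp only [Matrix.toSquareBlockProp_def, hA, Matrix.submatrix_apply, Matrix.of_apply]
      rw [hMne _ v.2, if_neg u.2]
    have h2 : (M.toSquareBlockProp fun v => ¬ v ≠ r).det = 1 := by
      haveI : Unique {v : V // ¬ v ≠ r} := ⟨⟨⟨r, by simp⟩⟩, fun x => Subtype.ext (not_not.1 x.2)⟩
      rw [Matrix.det_unique]
      simp only [Matrix.toSquareBlockProp_def, Matrix.of_apply]
      rw [not_not.1 (default : {v : V // ¬ v ≠ r}).2, hMr, if_pos rfl]
    rw [h1, h2, mul_one]
  have hAB : A.det = b r ^ 2 * B.det := by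
    rw [← hMdet, hM, Matrix.det_mul, Matrix.det_mul, Matrix.det_mul, hU, hU2, hU3]; ring
  have hA0 : A.det ≠ 0 := fun h => by rw [h] at hdet; simp at hdet; omega
  have hB0 : B.det ≠ 0 := fun h => hA0 (by rw [hAB, h, mul_zero])
  -- the group
  have hBx : ∀ x : V → ℤ, B.mulVec x = α.mulVec x + (∑ u, z u * x u) • z := by
    intro x; funext v
    simp only [Matrix.mulVec, dotProduct, hB, add_mul, Finset.sum_add_distrib, Pi.add_apply,
      Pi.smul_apply, smul_eq_mul, Finset.sum_mul]
    congr 1; apply Finset.sum_congr rfl; intros; ring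
  have hbB : ∀ x : V → ℤ, ∑ v, b v * α.mulVec x v = 0 := by
    intro x
    simp only [Matrix.mulVec, dotProduct, Finset.mul_sum]
    rw [Finset.sum_comm]
    apply Finset.sum_eq_zero
    intro u _
    simp only [← mul_assoc, ← Finset.sum_mul, hbα, zero_mul]
  have hker : ∀ y : V → ℤ, y ∈ LinearMap.ker (betaHom β) ↔ ∑ v, b v * y v = 0 := by
    intro y
    rw [LinearMap.mem_ker, betaHom_apply]
    have : ∑ v, y v * β v = m * ∑ v, b v * y v := by
      rw [Finset.mul_sum]; apply Finset.sum_congr rfl; intros; rw [hmb]; ring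
    rw [this, mul_eq_zero]; simp [hm0]
  have hbBmem : B.mulVec b = z := by
    rw [hBx, hzb, one_smul]
    funext v
    simp only [Pi.add_apply, Matrix.mulVec, dotProduct, hαb, zero_add]
  let g := (LinearMap.range B.mulVecLin).mkQ.comp (LinearMap.ker (betaHom β)).subtype
  have hgker : LinearMap.ker g =
      (LinearMap.range (Matrix.mulVecLin α)).comap (LinearMap.ker (betaHom β)).subtype := by
    ext y
    simp only [g, LinearMap.mem_ker, LinearMap.comp_apply, Submodule.mkQ_apply,
      Submodule.Quotient.mk_eq_zero, Submodule.coe_subtype, Submodule.mem_comap,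
      LinearMap.mem_range, Matrix.mulVecLin_apply]
    constructor
    · rintro ⟨x, hx⟩
      refine ⟨x, ?_⟩
      rw [hBx] at hx
      have h0 := (hker y.1).1 y.2
      rw [← hx] at h0
      simp only [Pi.add_apply, Pi.smul_apply, smul_eq_mul, mul_add, Finset.sum_add_distrib, hbB,
        zero_add] at h0
      have : (∑ u, z u * x u) = 0 := by
        calc (∑ u, z u * x u) = (∑ u, z u * x u) * ∑ v, z v * b v := by rw [hzb, mul_one]
          _ = ∑ v, b v * ((∑ u, z u * x u) * z v) := by
            rw [Finset.mul_sum]; apply Finset.sum_congr rfl; intros; ring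
          _ = 0 := h0
      rw [← hx, this, zero_smul, add_zero]
    · rintro ⟨x, hx⟩
      refine ⟨x - (∑ u, z u * x u) • b, ?_⟩
      rw [Matrix.mulVec_sub, Matrix.mulVec_smul, hbBmem, hBx, hx]
      abel
  have hgsurj : Function.Surjective g := by
    intro q
    obtain ⟨y, rfl⟩ := Submodule.Quotient.mk_surjective _ q
    refine ⟨⟨y - (∑ v, b v * y v) • z, ?_⟩, ?_⟩
    · rw [hker]
      simp only [Pi.sub_apply, Pi.smul_apply, smul_eq_mul, mul_sub, Finset.sum_sub_distrib]
      have : ∑ x, b x * ((∑ v, b v * y v) * z x) = ∑ v, b v * y v := by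
        calc ∑ x, b x * ((∑ v, b v * y v) * z x) = (∑ v, b v * y v) * ∑ x, z x * b x := by
              conv_rhs => rw [Finset.mul_sum]
              apply Finset.sum_congr rfl; intros; ring
          _ = _ := by rw [hzb, mul_one]
      rw [this, sub_self]
    · simp only [g, LinearMap.comp_apply, Submodule.coe_subtype, Submodule.mkQ_apply]
      rw [Submodule.Quotient.eq]
      refine ⟨-((∑ v, b v * y v) • b), ?_⟩
      rw [Matrix.mulVecLin_apply, Matrix.mulVec_neg, Matrix.mulVec_smul, hbBmem]
      abel
  have hcard : Nat.card (CompGrp ends β) = B.det.natAbs := by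
    rw [← card_coker B hB0]
    exact Nat.card_congr
      ((Submodule.quotEquivOfEq _ _ hgker.symm).trans (g.quotKerEquivOfSurjective hgsurj)).toEquiv
  -- compare
  have hterm : ∀ T ∈ univ.powerset.filter (fun T : Finset E => IsSpanningTree ends T),
      ∏ v : V, ((β v : ℚ) ^ ((nbrCount ends T v : ℤ) - 2)) =
        ((∏ e ∈ T, w e : ℤ) : ℚ) / ((∏ v : V, β v : ℤ) : ℚ) ^ 2 := by
    intro T hT
    simp only [mem_filter] at hT
    have hne : ∀ v, (β v : ℚ) ≠ 0 := fun v => by exact_mod_cast (hβ v).1.ne'
    have h1 : ∀ v, ((β v : ℚ) ^ ((nbrCount ends T v : ℤ) - 2)) =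
        (β v : ℚ) ^ endCount ends T v / (β v : ℚ) ^ 2 := by
      intro v
      rw [nbrCount_eq_endCount hT.2, zpow_sub₀ (hne v), zpow_natCast]
      rfl
    simp only [h1, Finset.prod_div_distrib]
    rw [Finset.prod_pow, Int.cast_prod, Int.cast_prod]
    congr 1
    simp only [endCount, ← Finset.prod_pow_eq_pow_sum]
    rw [Finset.prod_comm]
    apply Finset.prod_congr rfl
    intro e _
    simp only [hw, pow_add, Finset.prod_mul_distrib, pow_ite, pow_one, pow_zero, Finset.prod_ite_eq,
      mem_univ, if_true, Int.cast_mul]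
  rw [Finset.sum_congr rfl hterm, ← Finset.sum_div, ← Int.cast_sum]
  show (Nat.card (CompGrp ends β) : ℚ) = (m : ℚ) ^ 2 * ((S : ℚ) / ((∏ v : V, β v : ℤ) : ℚ) ^ 2)
  have hprod : (∏ v : V, β v) = β r * ∏ v : {v : V // v ≠ r}, β v.1 := by
    rw [← Finset.mul_prod_erase _ _ (mem_univ r)]
    congr 1
    exact (Finset.prod_subtype (univ.erase r) (by simp) β)
  have hAn : (A.det.natAbs : ℤ) = b r ^ 2 * (B.det.natAbs : ℤ) := by
    rw [hAB, Int.natAbs_mul, Int.natAbs_pow]
    push_cast
    rw [sq_abs]
  rw [hdet, hAn, hprod, hmb r, hcard]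
  have hP : (∏ v : {v : V // v ≠ r}, β v.1) ≠ 0 :=
    Finset.prod_ne_zero_iff.2 fun v _ => (hβ v.1).1.ne'
  generalize (∏ v : {v : V // v ≠ r}, β v.1) = P at hP ⊢
  generalize B.det.natAbs = N
  have h1 : (P : ℚ) ≠ 0 := by exact_mod_cast hP
  have h2 : (m : ℚ) ≠ 0 := by exact_mod_cast hm0
  have h3 : (b r : ℚ) ≠ 0 := by exact_mod_cast hbr
  push_cast
  field_simp

end LeadLabGraph
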