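import Groth.Prelude.Def_W4c2conddiscmodels
import Mathlib

/-! Spanning trees of multigraphs through "successor functions". -/

universe u

open Finset

namespace LeadLabGraph

variable {V E : Type u} [Fintype V] [Fintype E] [DecidableEq V] [DecidableEq E]
variable (ends : E → V × V)

open LabGraph

/-- Mod 2 boundary. -/
def par (γ : E → ZMod 2) (v : V) : ZMod 2 :=
  ∑ e : E, γ e * ((if (ends e).1 = v then 1 else 0) + (if (ends e).2 = v then 1 else 0))

lemma par_add (γ γ' : E → ZMod 2) (v : V) : par ends (γ + γ') v = par ends γ v + par ends γ' v := by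
  simp [par, add_mul, Finset.sum_add_distrib]

lemma par_single (e : E) (v : V) : par ends (Pi.single e 1) v =
    (if (ends e).1 = v then 1 else 0) + (if (ends e).2 = v then 1 else 0) := by
  rw [par, Finset.sum_eq_single e]
  · simp
  · intro e' _ h; simp [h]
  · simp

lemma endCount_cast (C : Finset E) (v : V) :
    ((endCount ends C v : ℕ) : ZMod 2) = par ends (fun e => if e ∈ C then 1 else 0) v := by
  simp only [endCount, par, Nat.cast_sum, Nat.cast_add, Nat.cast_ite, Nat.cast_one, Nat.cast_zero]
  simp only [ite_mul, one_mul, zero_mul, ← Finset.sum_filter, Finset.filter_mem_eq_inter,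
    Finset.univ_inter]

lemma even_iff_par (C : Finset E) (v : V) :
    Even (endCount ends C v) ↔ par ends (fun e => if e ∈ C then 1 else 0) v = 0 := by
  rw [← endCount_cast, ZMod.natCast_eq_zero_iff_even]

lemma exists_circuit_subset (C : Finset E) (hne : C.Nonempty)
    (hev : ∀ v, Even (endCount ends C v)) : ∃ C', C' ⊆ C ∧ IsCircuit ends C' := by
  classical
  induction C using Finset.strongInduction with
  | H C ih =>
    by_cases h : ∃ C' : Finset E, C' ⊂ C ∧ C'.Nonempty ∧ ∀ v, Even (endCount ends C' v)
    · obtain ⟨C', h1, h2, h3⟩ := h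
      obtain ⟨C'', h4, h5⟩ := ih C' h1 h2 h3
      exact ⟨C'', h4.trans h1.subset, h5⟩
    · push_neg at h
      refine ⟨C, subset_rfl, hne, hev, fun C' h1 h2 => ?_⟩
      obtain ⟨v, hv⟩ := h C' h1 h2
      exact ⟨v, hv⟩

/-! ### Spanning trees -/

/-- Adjacency through the edges of `T`. -/
def AdjIn (T : Finset E) (v w : V) : Prop :=
  ∃ e ∈ T, ends e = (v, w) ∨ ends e = (w, v)

lemma endCount_map (T : Finset E) (C : Finset T) (v : V) :
    endCount (fun e : T => ends e.1) C v = endCount ends (C.map (Function.Embedding.subtype _)) v := by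
  simp only [endCount, Finset.sum_map]; rfl

lemma isSpanningTree_iff [Nonempty V] (T : Finset E) :
    IsSpanningTree ends T ↔ (∀ v w, Relation.ReflTransGen (AdjIn ends T) v w) ∧
      ∀ C, C ⊆ T → C.Nonempty → ∃ v, ¬ Even (endCount ends C v) := by
  classical
  have hadj : ∀ v w, LabGraph.Adj (fun e : T => ends e.1) v w ↔ AdjIn ends T v w :=
    fun v w => ⟨fun ⟨e, he⟩ => ⟨e.1, e.2, he⟩, fun ⟨e, h, he⟩ => ⟨⟨e, h⟩, he⟩⟩
  have hrel : LabGraph.Adj (fun e : T => ends e.1) = AdjIn ends T := by
    funext v w; exact propext (hadj v w)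
  constructor
  · rintro ⟨⟨-, hconn⟩, hfor⟩
    refine ⟨fun v w => hrel ▸ hconn v w, fun C hC hne => ?_⟩
    by_contra hev
    push_neg at hev
    have h1 : (C.subtype (· ∈ T)).map (Function.Embedding.subtype _) = C := by
      rw [Finset.subtype_map_of_mem hC]
    obtain ⟨C', -, hC'⟩ := exists_circuit_subset (fun e : T => ends e.1) (C.subtype (· ∈ T))
      (by rw [← Finset.map_nonempty (f := Function.Embedding.subtype _), h1]; exact hne)
      (fun v => by rw [endCount_map, h1]; exact hev v)
    exact hfor C' hC'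
  · rintro ⟨hconn, hfor⟩
    refine ⟨⟨inferInstance, fun v w => hrel ▸ hconn v w⟩, fun C hC => ?_⟩
    obtain ⟨v, hv⟩ := hfor (C.map (Function.Embedding.subtype _)) (fun e he => by
      obtain ⟨e', -, rfl⟩ := Finset.mem_map.1 he
      exact e'.2) (hC.1.map)
    exact hv (endCount_map ends T C v ▸ hC.2.1 v)

/-! ### Successor functions -/

/-- Source of a dart. -/
def dsrc (d : E × Bool) : V := if d.2 then (ends d.1).2 else (ends d.1).1
/-- Target of a dart. -/
def dtgt (d : E × Bool) : V := if d.2 then (ends d.1).1 else (ends d.1).2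

lemma dart_link (d : E × Bool) :
    ends d.1 = (dsrc ends d, dtgt ends d) ∨ ends d.1 = (dtgt ends d, dsrc ends d) := by
  rcases d with ⟨e, b⟩
  cases b <;> simp [dsrc, dtgt]

lemma link_dart {e : E} {v w : V} (h : ends e = (v, w) ∨ ends e = (w, v)) :
    ∃ d : E × Bool, d.1 = e ∧ dsrc ends d = v ∧ dtgt ends d = w := by
  rcases h with h | h
  · exact ⟨(e, false), rfl, by simp [dsrc, h], by simp [dtgt, h]⟩
  · exact ⟨(e, true), rfl, by simp [dsrc, h], by simp [dtgt, h]⟩

variable {r : V}

/-- The successor of a vertex. -/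
def sc (f : {v : V // v ≠ r} → E × Bool) (v : V) : V :=
  if h : v = r then r else dtgt ends (f ⟨v, h⟩)

/-- A choice of darts leading every vertex to `r`. -/
def Good (f : {v : V // v ≠ r} → E × Bool) : Prop :=
  (∀ v, dsrc ends (f v) = v.1) ∧ ∀ v, ∃ k, (sc ends f)^[k] v = r

/-- The edges used. -/
def img (f : {v : V // v ≠ r} → E × Bool) : Finset E := univ.image fun v => (f v).1

variable {ends}
variable {f : {v : V // v ≠ r} → E × Bool}

lemma sc_r : sc ends f r = r := by simp [sc]

lemma sc_ne (v : {v : V // v ≠ r}) : sc ends f v.1 = dtgt ends (f v) := by simp [sc, v.2]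

lemma iter_r (k : ℕ) : (sc ends f)^[k] r = r := Function.iterate_fixed sc_r k

lemma iter_mono {v : V} {k n : ℕ} (h : (sc ends f)^[k] v = r) (hkn : k ≤ n) :
    (sc ends f)^[n] v = r := by
  obtain ⟨j, rfl⟩ := Nat.exists_eq_add_of_le hkn
  rw [add_comm, Function.iterate_add_apply, h, iter_r]

namespace Good

variable (H : Good ends f)
include H

/-- Distance to the root. -/
noncomputable def dep (v : V) : ℕ := Nat.find (H.2 v)

lemma dep_sc (v : {v : V // v ≠ r}) : dep H v.1 = dep H (sc ends f v.1) + 1 := by
  classical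
  unfold dep
  rw [Nat.find_eq_iff]
  refine ⟨?_, fun n hn h => ?_⟩
  · rw [Function.iterate_succ_apply]
    exact Nat.find_spec (H.2 (sc ends f v.1))
  · cases n with
    | zero => exact v.2 (by simpa using h)
    | succ n =>
      rw [Function.iterate_succ_apply] at h
      exact Nat.find_min (H.2 (sc ends f v.1)) (by omega) h

lemma ends_eq (v : {v : V // v ≠ r}) :
    ends (f v).1 = (v.1, sc ends f v.1) ∨ ends (f v).1 = (sc ends f v.1, v.1) := by
  have h := dart_link ends (f v)
  rwa [H.1 v, ← sc_ne] at h

lemma sc_ne_self (v : {v : V // v ≠ r}) : sc ends f v.1 ≠ v.1 := by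
  intro h
  have := dep_sc H v
  rw [h] at this
  omega

lemma inj : Function.Injective fun v => (f v).1 := by
  intro v u h
  simp only at h
  by_contra hne
  have hne' : v.1 ≠ u.1 := fun h' => hne (Subtype.ext h')
  have h1 := ends_eq H v
  have h2 := ends_eq H u
  rw [h] at h1
  have : sc ends f v.1 = u.1 ∧ sc ends f u.1 = v.1 := by
    rcases h1 with h1 | h1 <;> rcases h2 with h2 | h2 <;> rw [h1] at h2 <;>
      simp only [Prod.mk.injEq] at h2 <;>
      first | exact ⟨h2.1, h2.2.symm⟩ | exact ⟨h2.2, h2.1.symm⟩ | exact absurd h2.1 hne' | exact absurd h2.2 hne'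
  have a := dep_sc H v
  have b := dep_sc H u
  rw [this.1] at a
  rw [this.2] at b
  omega

lemma adjIn_sc (v : {v : V // v ≠ r}) : AdjIn ends (img f) v.1 (sc ends f v.1) :=
  ⟨(f v).1, Finset.mem_image_of_mem _ (mem_univ v), ends_eq H v⟩

lemma reach (v : V) : Relation.ReflTransGen (AdjIn ends (img f)) v r ∧
    Relation.ReflTransGen (AdjIn ends (img f)) r v := by
  induction hn : dep H v using Nat.strong_induction_on generalizing v with
  | _ n ih =>
    by_cases hv : v = r
    · subst hv; exact ⟨.refl, .refl⟩
    · have h := dep_sc H ⟨v, hv⟩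
      obtain ⟨h1, h2⟩ := ih (dep H (sc ends f v)) (by simp only at h; omega) _ rfl
      obtain ⟨e, he, he'⟩ := adjIn_sc H ⟨v, hv⟩
      exact ⟨h1.head ⟨e, he, he'⟩, h2.tail ⟨e, he, he'.symm⟩⟩

lemma connected (v w : V) : Relation.ReflTransGen (AdjIn ends (img f)) v w :=
  (reach H v).1.trans (reach H w).2

lemma forest (C : Finset E) (hC : C ⊆ img f) (hne : C.Nonempty) :
    ∃ v, ¬ Even (endCount ends C v) := by
  classical
  set S := (univ : Finset {v : V // v ≠ r}).filter (fun v => (f v).1 ∈ C) with hS
  have hSne : S.Nonempty := by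
    obtain ⟨e, he⟩ := hne
    obtain ⟨v, -, hv⟩ := Finset.mem_image.1 (hC he)
    exact ⟨v, by simp only [hS, mem_filter, mem_univ, true_and, hv, he]⟩
  obtain ⟨v, hvS, hmax⟩ := Finset.exists_max_image S (fun v => dep H v.1) hSne
  have hvC : (f v).1 ∈ C := (Finset.mem_filter.1 hvS).2
  refine ⟨v.1, ?_⟩
  have : endCount ends C v.1 = 1 := by
    rw [endCount, Finset.sum_eq_single (f v).1]
    · rcases ends_eq H v with h | h <;> rw [h] <;> simp [sc_ne_self H v]
    · intro e he hne'
      obtain ⟨u, -, rfl⟩ := Finset.mem_image.1 (hC he)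
      have huv : u.1 ≠ v.1 := fun h => hne' (by rw [Subtype.ext h])
      have hsc : sc ends f u.1 ≠ v.1 := by
        intro h
        have h1 := dep_sc H u
        have h2 := hmax u (by simp only [hS, mem_filter, mem_univ, true_and, he])
        rw [h] at h1
        omega
      rcases ends_eq H u with h | h <;> rw [h] <;> simp [huv, hsc]
    · intro h; exact absurd hvC h
  rw [this]; decide

lemma isSpanningTree : IsSpanningTree ends (img f) := by
  haveI : Nonempty V := ⟨r⟩
  exact (isSpanningTree_iff ends _).2 ⟨connected H, forest H⟩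

/-- An edge outside closes a nonempty even set. -/
lemma even_of_extra (e : E) (he : e ∉ img f) : ∃ C : Finset E, e ∈ C ∧ C ⊆ insert e (img f) ∧
    ∀ v, Even (endCount ends C v) := by
  classical
  have key : ∀ v : V, ∃ γ : E → ZMod 2, (∀ e', e' ∉ img f → γ e' = 0) ∧
      ∀ x, par ends γ x = (if v = x then 1 else 0) + (if r = x then 1 else 0) := by
    intro v
    induction hn : dep H v using Nat.strong_induction_on generalizing v with
    | _ n ih =>
      by_cases hv : v = r
      · subst hv
        exact ⟨0, fun _ _ => rfl, fun x => by rw [CharTwo.add_self_eq_zero]; simp [par]⟩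
      · have h := dep_sc H ⟨v, hv⟩
        obtain ⟨γ, h1, h2⟩ := ih (dep H (sc ends f v)) (by simp only at h; omega) _ rfl
        refine ⟨γ + Pi.single (f ⟨v, hv⟩).1 1, fun e' he' => ?_, fun x => ?_⟩
        · have : e' ≠ (f ⟨v, hv⟩).1 := fun h' =>
            he' (h' ▸ Finset.mem_image_of_mem (fun v => (f v).1) (mem_univ _))
          simp [h1 e' he', this]
        · rw [par_add, h2, par_single]
          set a : ZMod 2 := if sc ends f v = x then 1 else 0
          set b : ZMod 2 := if r = x then 1 else 0
          set c : ZMod 2 := if v = x then 1 else 0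
          rcases ends_eq H ⟨v, hv⟩ with h' | h' <;> rw [h'] <;> simp only <;>
          · have := CharTwo.add_self_eq_zero a
            linear_combination this
  obtain ⟨γ₁, a1, a2⟩ := key (ends e).1
  obtain ⟨γ₂, b1, b2⟩ := key (ends e).2
  set γ := Pi.single e 1 + γ₁ + γ₂ with hγ
  refine ⟨univ.filter (fun e' => γ e' = 1), ?_, ?_, fun v => ?_⟩
  · simp [hγ, a1 e he, b1 e he]
  · intro e' he'
    simp only [mem_filter, mem_univ, true_and] at he'
    by_contra hc
    simp only [mem_insert, not_or] at hc
    simp [hγ, a1 e' hc.2, b1 e' hc.2, hc.1] at he'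
  · rw [even_iff_par]
    have hfun : (fun e' => if e' ∈ univ.filter (fun e' => γ e' = 1) then (1 : ZMod 2) else 0) = γ := by
      funext e'
      have h2 : ∀ z : ZMod 2, (if z = 1 then 1 else 0) = z := by decide
      simpa using h2 (γ e')
    rw [hfun, hγ, par_add, par_add, par_single, a2, b2]
    set a : ZMod 2 := if (ends e).1 = v then 1 else 0
    set b : ZMod 2 := if (ends e).2 = v then 1 else 0
    set c : ZMod 2 := if r = v then 1 else 0
    linear_combination CharTwo.add_self_eq_zero a + CharTwo.add_self_eq_zero b + CharTwo.add_self_eq_zero c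

end Good

/-- A connected edge set contains the image of a good choice. -/
lemma exists_good (T : Finset E) (hT : ∀ v, Relation.ReflTransGen (AdjIn ends T) v r) :
    ∃ f : {v : V // v ≠ r} → E × Bool, Good ends f ∧ img f ⊆ T := by
  classical
  -- `lev n v` : `v` reaches `r` in at most `n` steps
  let lev : ℕ → V → Prop := fun n => Nat.rec (fun v => v = r)
    (fun _ P v => P v ∨ ∃ w, AdjIn ends T v w ∧ P w) n
  have hex : ∀ v, ∃ n, lev n v := by
    intro v
    induction hT v using Relation.ReflTransGen.head_induction_on with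
    | refl => exact ⟨0, rfl⟩
    | head hab _ ih =>
      obtain ⟨n, hn⟩ := ih
      exact ⟨n + 1, Or.inr ⟨_, hab, hn⟩⟩
  let dist : V → ℕ := fun v => sInf {n | lev n v}
  have dmem : ∀ v, lev (dist v) v := fun v => Nat.sInf_mem (s := {n | lev n v}) (hex v)
  have dle : ∀ {v n}, lev n v → dist v ≤ n := fun h => Nat.sInf_le h
  have hstep : ∀ v : {v : V // v ≠ r}, ∃ d : E × Bool, d.1 ∈ T ∧ dsrc ends d = v.1 ∧
      dist (dtgt ends d) < dist v.1 := by
    intro v
    have hs := dmem v.1
    cases hn : dist v.1 with
    | zero => rw [hn] at hs; exact absurd hs v.2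
    | succ n =>
      rw [hn] at hs
      rcases hs with hs | ⟨w, ⟨e, he, hew⟩, hw⟩
      · have := dle hs; omega
      · obtain ⟨d, rfl, hd1, hd2⟩ := link_dart ends hew
        refine ⟨d, he, hd1, ?_⟩
        have := dle (v := dtgt ends d) (hd2 ▸ hw)
        omega
  choose f hf1 hf2 hf3 using hstep
  refine ⟨f, ⟨hf2, fun v => ?_⟩, fun e he => ?_⟩
  · induction hn : dist v using Nat.strong_induction_on generalizing v with
    | _ n ih =>
      by_cases hv : v = r
      · exact ⟨0, hv⟩
      · have h := hf3 ⟨v, hv⟩
        simp only at h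
        obtain ⟨k, hk⟩ := ih _ (hn ▸ h) (dtgt ends (f ⟨v, hv⟩)) rfl
        exact ⟨k + 1, by rw [Function.iterate_succ_apply, sc_ne ⟨v, hv⟩]; exact hk⟩
  · obtain ⟨v, -, rfl⟩ := Finset.mem_image.1 he
    exact hf1 v

/-- Every spanning tree comes from a good choice. -/
lemma exists_good_eq (r : V) (T : Finset E) (hT : IsSpanningTree ends T) :
    ∃ f : {v : V // v ≠ r} → E × Bool, Good ends f ∧ img f = T := by
  classical
  haveI : Nonempty V := ⟨r⟩
  obtain ⟨hconn, hfor⟩ := (isSpanningTree_iff ends T).1 hT
  obtain ⟨f, hf, hsub⟩ := exists_good (r := r) T (fun v => hconn v r)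
  refine ⟨f, hf, le_antisymm hsub fun e he => ?_⟩
  by_contra hne
  obtain ⟨C, hC1, hC2, hC3⟩ := hf.even_of_extra e hne
  obtain ⟨v, hv⟩ := hfor C (hC2.trans (Finset.insert_subset he hsub)) ⟨e, hC1⟩
  exact hv (hC3 v)

/-- The tree determines the choice. -/
lemma good_unique {f g : {v : V // v ≠ r} → E × Bool} (hf : Good ends f) (hg : Good ends g)
    (h : img f = img g) : f = g := by
  classical
  funext v
  have key : ∀ v, (f v).1 = (g v).1 := by
    intro v
    induction hn : hf.dep v.1 using Nat.strong_induction_on generalizing v with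
    | _ n ih =>
      have hmem : (f v).1 ∈ img g := h ▸ Finset.mem_image_of_mem (fun v => (f v).1) (mem_univ v)
      obtain ⟨x, -, hx⟩ := Finset.mem_image.1 hmem
      by_cases hxv : x = v
      · rw [← hx, hxv]
      · exfalso
        have hxv' : x.1 ≠ v.1 := fun h' => hxv (Subtype.ext h')
        have h1 := hg.ends_eq x
        have h2 := hf.ends_eq v
        rw [hx] at h1
        have hscx : sc ends f v.1 = x.1 := by
          rcases h1 with h1 | h1 <;> rcases h2 with h2 | h2 <;> rw [h1] at h2 <;>
            simp only [Prod.mk.injEq] at h2 <;>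
            first | exact h2.1.symm | exact h2.2.symm | exact absurd h2.1 hxv' | exact absurd h2.2 hxv'
        have hd := hf.dep_sc v
        rw [hscx] at hd
        have h3 := ih (hf.dep x.1) (by omega) x rfl
        exact hxv (hf.inj (h3.trans hx))
  have h1 := key v
  have h2 := hf.1 v
  have h3 := hg.1 v
  rcases hfv : f v with ⟨e, b⟩
  rcases hgv : g v with ⟨e', b'⟩
  rw [hfv] at h1 h2; rw [hgv] at h1 h3
  simp only at h1; subst h1
  have hns := hf.sc_ne_self v
  rw [sc_ne, hfv] at hns
  cases b <;> cases b' <;> simp_all [dsrc, dtgt]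

lemma prod_img {M : Type*} [CommMonoid M] (hf : Good ends f) (w : E → M) :
    ∏ e ∈ img f, w e = ∏ v, w (f v).1 := by
  rw [img, Finset.prod_image (fun a _ b _ h => hf.inj h)]

/-- In a spanning tree there are neither loops nor parallel edges. -/
lemma nbrCount_eq_endCount [Nonempty V] {T : Finset E} (hT : IsSpanningTree ends T) (v : V) :
    nbrCount ends T v = endCount ends T v := by
  classical
  obtain ⟨-, hfor⟩ := (isSpanningTree_iff ends T).1 hT
  have noloop : ∀ e ∈ T, (ends e).1 ≠ (ends e).2 := by
    intro e he hl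
    obtain ⟨x, hx⟩ := hfor {e} (by simpa using he) (by simp)
    apply hx
    simp only [endCount, Finset.sum_singleton, hl]
    exact ⟨_, rfl⟩
  have nopar : ∀ e ∈ T, ∀ e' ∈ T, ∀ a b, (ends e = (a, b) ∨ ends e = (b, a)) →
      (ends e' = (a, b) ∨ ends e' = (b, a)) → e = e' := by
    intro e he e' he' a b h h'
    by_contra hne
    obtain ⟨x, hx⟩ := hfor {e, e'} (Finset.insert_subset he (by simpa using he')) (by simp)
    apply hx
    simp only [endCount, Finset.sum_pair hne]
    rcases h with h | h <;> rcases h' with h' | h' <;> rw [h, h'] <;> simp only <;>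
      exact ⟨(if a = x then 1 else 0) + (if b = x then 1 else 0), by ring⟩
  have he : endCount ends T v = (T.filter fun e => (ends e).1 = v ∨ (ends e).2 = v).card := by
    rw [Finset.card_filter, endCount]
    apply Finset.sum_congr rfl
    intro e he
    have := noloop e he
    by_cases h1 : (ends e).1 = v
    · subst h1; simp [this.symm]
    · simp [h1]
  rw [he, nbrCount]
  symm
  refine Finset.card_bij (fun e _ => if (ends e).1 = v then (ends e).2 else (ends e).1) ?_ ?_ ?_
  · intro e he
    simp only [mem_filter, mem_univ, true_and] at he ⊢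
    have := noloop e he.1
    by_cases h1 : (ends e).1 = v
    · subst h1
      rw [if_pos rfl]
      exact ⟨this.symm, e, he.1, Or.inl rfl⟩
    · have h2 := he.2.resolve_left h1
      rw [if_neg h1]
      exact ⟨h1, e, he.1, Or.inr (by rw [← h2])⟩
  · intro e he e' he' heq
    simp only [mem_filter] at he he'
    apply nopar e he.1 e' he'.1 v (if (ends e).1 = v then (ends e).2 else (ends e).1)
    · by_cases h1 : (ends e).1 = v
      · left; rw [if_pos h1, ← h1]
      · right; rw [if_neg h1, ← he.2.resolve_left h1]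
    · rw [heq]
      by_cases h1 : (ends e').1 = v
      · left; rw [if_pos h1, ← h1]
      · right; rw [if_neg h1, ← he'.2.resolve_left h1]
  · intro w hw
    simp only [mem_filter, mem_univ, true_and] at hw
    obtain ⟨hwv, e, he, h | h⟩ := hw
    · exact ⟨e, by simp [he, h], by simp [h]⟩
    · exact ⟨e, by simp [he, h], by simp [h, hwv]⟩

/-- A connected graph minus an edge of an even set stays connected. -/
lemma connected_erase (hG : LabGraph.Connected ends) {C : Finset E} {e : E} (he : e ∈ C)
    (hev : ∀ v, Even (endCount ends C v)) (v w : V) :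
    Relation.ReflTransGen (AdjIn ends (univ.erase e)) v w := by
  classical
  set R := AdjIn ends (univ.erase e) with hR
  haveI : Std.Symm R := ⟨by rintro a b ⟨e', h, h'⟩; exact ⟨e', h, h'.symm⟩⟩
  have hsym : ∀ {a b}, Relation.ReflTransGen R a b → Relation.ReflTransGen R b a :=
    fun {a b} h => (Relation.ReflTransGen.symmetric (r := R)).symm a b h
  have hlink : Relation.ReflTransGen R (ends e).1 (ends e).2 := by
    by_contra hne
    set S := (univ : Finset V).filter (fun x => Relation.ReflTransGen R (ends e).1 x) with hS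
    have hsum : Even (∑ x ∈ S, endCount ends C x) := by
      apply Finset.even_sum; exact fun x _ => hev x
    simp only [endCount] at hsum
    rw [Finset.sum_comm] at hsum
    simp only [Finset.sum_add_distrib, Finset.sum_ite_eq] at hsum
    rw [← Finset.sum_add_distrib, ← Finset.add_sum_erase _ _ he] at hsum
    have hsame : ∀ e' ∈ C.erase e, ((ends e').1 ∈ S ↔ (ends e').2 ∈ S) := by
      intro e' he'
      have hne' : e' ∈ univ.erase e := by simp [(Finset.ne_of_mem_erase he')]
      simp only [hS, mem_filter, mem_univ, true_and]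
      exact ⟨fun h => h.tail ⟨e', hne', Or.inl rfl⟩, fun h => h.tail ⟨e', hne', Or.inr rfl⟩⟩
    have hev2 : Even (∑ e' ∈ C.erase e, ((if (ends e').1 ∈ S then 1 else 0) +
        if (ends e').2 ∈ S then 1 else 0)) := by
      apply Finset.even_sum
      intro e' he'
      by_cases h : (ends e').1 ∈ S
      · rw [if_pos h, if_pos ((hsame e' he').1 h)]; decide
      · rw [if_neg h, if_neg (fun h2 => h ((hsame e' he').2 h2))]; decide
    rw [Nat.even_add] at hsum
    have h1 : (ends e).1 ∈ S := by simp [hS, Relation.ReflTransGen.refl]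
    have h2 : (ends e).2 ∉ S := by simpa [hS] using hne
    rw [if_pos h1, if_neg h2] at hsum
    have := hsum.2 hev2
    norm_num at this
  induction hG.2 v w with
  | refl => exact .refl
  | tail _ hab ih =>
    obtain ⟨e', he'⟩ := hab
    by_cases h : e' = e
    · subst h
      rcases he' with h | h <;> rw [h] at hlink
      · exact ih.trans hlink
      · exact ih.trans (hsym hlink)
    · exact ih.tail ⟨e', by simp [h], he'⟩

theorem mem_circuit_iff (hG : LabGraph.Connected ends) (v : V) :
    (∃ C : Finset E, IsCircuit ends C ∧ endCount ends C v ≠ 0) ↔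
      ∃ T : Finset E, IsSpanningTree ends T ∧
        ∃ e : E, e ∉ T ∧ ((ends e).1 = v ∨ (ends e).2 = v) := by
  classical
  haveI := hG.1
  constructor
  · rintro ⟨C, hC, hv⟩
    obtain ⟨e, he, hev⟩ : ∃ e ∈ C, (ends e).1 = v ∨ (ends e).2 = v := by
      by_contra hc
      push_neg at hc
      exact hv (Finset.sum_eq_zero fun e he => by simp [hc e he])
    obtain ⟨f, hf, hsub⟩ := exists_good (r := v) (univ.erase e)
      (fun x => connected_erase hG he hC.2.1 x v)
    exact ⟨img f, hf.isSpanningTree, e, fun h => Finset.notMem_erase e univ (hsub h), hev⟩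
  · rintro ⟨T, hT, e, he, hev⟩
    obtain ⟨f, hf, rfl⟩ := exists_good_eq v T hT
    obtain ⟨C, hC1, hC2, hC3⟩ := hf.even_of_extra e he
    obtain ⟨C', hC'1, hC'⟩ := exists_circuit_subset ends C ⟨e, hC1⟩ hC3
    refine ⟨C', hC', ?_⟩
    have heC : e ∈ C' := by
      by_contra h
      obtain ⟨x, hx⟩ := hf.forest C' (fun a ha => by
        rcases Finset.mem_insert.1 (hC2 (hC'1 ha)) with h' | h'
        · exact absurd (h' ▸ ha) h
        · exact h') hC'.1
      exact hx (hC'.2.1 x)
    intro h0
    have := (Finset.sum_eq_zero_iff.1 h0) e heC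
    rcases hev with h | h <;> simp [h] at this

end LeadLabGraph
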